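import Groth.Agent.DvrGeom.Scheme
import Groth.Agent.Weighting.Local
import Groth.Agent.ProperCover.Basic
import Groth.Prelude.Def_EGA43

/-!
# Geometric numbers of points of quasi-finite separated morphisms

`nGeomConnComp f` counts lifts of geometric points; it is lower semicontinuous where `f` is universally
open, and local constancy there gives properness.
-/

set_option autoImplicit false
universe u

open CategoryTheory Limits AlgebraicGeometry Groth.Agent.Weighting

namespace Groth.Agent.GeomCount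

theorem nGeomConnComp_lt_top {X Y : Scheme.{u}} (f : X ⟶ Y) [LocallyQuasiFinite f] [QuasiCompact f] (y : Y) :
    MoreMor.nGeomConnComp f y < ⊤ := by
  obtain ⟨B, _, _, _, hB⟩ := DvrGeom.exists_algebra_card_pullback (k := Y.residueField y) (f.fiberToSpecResidueField y)
  obtain ⟨hd, hc⟩ := hB (SeparableClosure (Y.residueField y))
  have : DiscreteTopology ↥(MoreMor.geomFiber f y) := hd
  have : IsArtinianRing (TensorProduct (Y.residueField y) (SeparableClosure (Y.residueField y)) B) :=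
    IsArtinianRing.of_finite (SeparableClosure (Y.residueField y))
      (TensorProduct (Y.residueField y) (SeparableClosure (Y.residueField y)) B)
  rw [MoreMor.nGeomConnComp, DvrGeom.card_connectedComponents (T := ↥(MoreMor.geomFiber f y))]
  exact lt_of_eq_of_lt hc ENat.card_lt_top_of_finite

theorem exists_fiber_iso {X Y : Scheme.{u}} (f : X ⟶ Y) [LocallyQuasiFinite f] [QuasiCompact f] (y : Y) :
    ∃ (B : Type u) (_ : CommRing B) (_ : Algebra (Y.residueField y) B) (_ : Module.Finite (Y.residueField y) B)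
      (e : f.fiber y ≅ Spec (.of B)),
      e.hom ≫ Spec.map (CommRingCat.ofHom (algebraMap (Y.residueField y) B)) = f.fiberToSpecResidueField y ∧
      MoreMor.nGeomConnComp f y = ENat.card (B →ₐ[Y.residueField y] AlgebraicClosure (Y.residueField y)) := by
  let q := f.fiberToSpecResidueField y
  have : IsFinite q := inferInstance
  have : IsAffine (f.fiber y) := isAffine_of_isAffineHom q
  let φ : Y.residueField y ⟶ Γ(f.fiber y, ⊤) := Spec.preimage ((f.fiber y).isoSpec.inv ≫ q)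
  have hφ : Spec.map φ = (f.fiber y).isoSpec.inv ≫ q := Spec.map_preimage _
  have hfin : φ.hom.Finite := by
    rw [← IsFinite.SpecMap_iff, hφ]
    infer_instance
  let := φ.hom.toAlgebra
  have hq : (f.fiber y).isoSpec.hom ≫ Spec.map φ = q := by rw [hφ, Iso.hom_inv_id_assoc]
  refine ⟨Γ(f.fiber y, ⊤), inferInstance, inferInstance, hfin, (f.fiber y).isoSpec, hq, ?_⟩
  have : Module.Finite (Y.residueField y) Γ(f.fiber y, ⊤) := hfin
  let K := SeparableClosure (Y.residueField y)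
  let s := Spec.map (CommRingCat.ofHom (algebraMap (Y.residueField y) K))
  let e : pullback q s ≅ Spec (.of (TensorProduct (Y.residueField y) K Γ(f.fiber y, ⊤))) :=
    asIso (pullback.map q s (Spec.map (CommRingCat.ofHom (algebraMap (Y.residueField y) Γ(f.fiber y, ⊤)))) s
      (f.fiber y).isoSpec.hom (𝟙 _) (𝟙 _) (by rw [Category.comp_id]; exact hq.symm)
      (by rw [Category.comp_id, Category.id_comp])) ≪≫ pullbackSymmetry _ _ ≪≫
        pullbackSpecIso (Y.residueField y) K Γ(f.fiber y, ⊤)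
  let h : ↥(MoreMor.geomFiber f y) ≃ₜ PrimeSpectrum (TensorProduct (Y.residueField y) K Γ(f.fiber y, ⊤)) :=
    Scheme.Hom.homeomorph e.hom
  have : DiscreteTopology (PrimeSpectrum (TensorProduct (Y.residueField y) K Γ(f.fiber y, ⊤))) :=
    Algebra.QuasiFinite.discreteTopology_primeSpectrum K (TensorProduct (Y.residueField y) K Γ(f.fiber y, ⊤))
  have : DiscreteTopology ↥(MoreMor.geomFiber f y) := h.discreteTopology_iff.2 inferInstance
  rw [MoreMor.nGeomConnComp, DvrGeom.card_connectedComponents (T := ↥(MoreMor.geomFiber f y)),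
    ← DvrGeom.card_primeSpectrum_tensor_separableClosure]
  exact ENat.card_congr h.toEquiv

/-- The geometric number of points of a fibre counts the lifts of any geometric point. -/
theorem card_geo {X Y : Scheme.{u}} (f : X ⟶ Y) [LocallyQuasiFinite f] [QuasiCompact f]
    {Ω : Type u} [Field Ω] [IsAlgClosed Ω] (γ : Spec (CommRingCat.of Ω) ⟶ Y) :
    MoreMor.nGeomConnComp f (pt γ) = ENat.card {χ : Spec (CommRingCat.of Ω) ⟶ X // χ ≫ f = γ} := by
  obtain ⟨a, ha⟩ : ∃ a : Y.residueField (pt γ) ⟶ CommRingCat.of Ω, Spec.map a ≫ Y.fromSpecResidueField (pt γ) = γ :=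
    ⟨_, (Scheme.SpecToEquivOfField Ω Y).left_inv γ⟩
  obtain ⟨B, _, _, _, e, he, hn⟩ := exists_fiber_iso f (pt γ)
  let := a.hom.toAlgebra
  rw [hn, ← DvrGeom.card_algHom_eq (Y.residueField (pt γ)) B Ω]
  have hcond : ∀ φ : B →ₐ[Y.residueField (pt γ)] Ω,
      (Spec.map (CommRingCat.ofHom φ.toRingHom) ≫ e.inv ≫ f.fiberι (pt γ)) ≫ f = γ := fun φ => by
    rw [Category.assoc, Category.assoc, f.fiber_fac, ← he, Category.assoc, Iso.inv_hom_id_assoc,
      ← Spec.map_comp_assoc]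
    conv_rhs => rw [← ha]
    congr 2
    exact CommRingCat.hom_ext φ.comp_algebraMap
  refine ENat.card_congr (Equiv.ofBijective (fun φ => ⟨_, hcond φ⟩) ⟨fun φ φ' h => ?_, fun χ => ?_⟩)
  · have h1 := congrArg Subtype.val h
    simp only [← Category.assoc] at h1
    have h2 : Spec.map (CommRingCat.ofHom φ.toRingHom) ≫ e.inv = Spec.map (CommRingCat.ofHom φ'.toRingHom) ≫ e.inv := by
      refine pullback.hom_ext h1 ?_
      have h3 : ∀ ψ : B →ₐ[Y.residueField (pt γ)] Ω,
          (Spec.map (CommRingCat.ofHom ψ.toRingHom) ≫ e.inv) ≫ f.fiberToSpecResidueField (pt γ) = Spec.map a := fun ψ => by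
        rw [Category.assoc, ← he, Iso.inv_hom_id_assoc, ← Spec.map_comp]
        congr 1
        exact CommRingCat.hom_ext ψ.comp_algebraMap
      exact (h3 φ).trans (h3 φ').symm
    rw [cancel_mono, Spec.map_inj] at h2
    exact AlgHom.coe_ringHom_injective (congrArg CommRingCat.Hom.hom h2)
  · let l : Spec (CommRingCat.of Ω) ⟶ f.fiber (pt γ) := pullback.lift χ.1 (Spec.map a) (χ.2.trans ha.symm)
    let ψ := Spec.preimage (l ≫ e.hom)
    have hψ : Spec.map (CommRingCat.ofHom (algebraMap (Y.residueField (pt γ)) B) ≫ ψ) = Spec.map a := by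
      rw [Spec.map_comp, Spec.map_preimage, Category.assoc, he]
      exact pullback.lift_snd _ _ _
    refine ⟨⟨ψ.hom, fun r => congr($(Spec.map_injective hψ) r)⟩, Subtype.ext ?_⟩
    show Spec.map ψ ≫ e.inv ≫ f.fiberι (pt γ) = χ.1
    rw [Spec.map_preimage, Category.assoc, Iso.hom_inv_id_assoc]
    exact pullback.lift_fst _ _ _

/-- Étale locally around a point over which `f` is universally open, the fibre points spread out. -/
theorem exists_spread {X Y : Scheme.{u}} (f : X ⟶ Y) [IsSeparated f] [LocallyQuasiFinite f] [LocallyOfFiniteType f]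
    [QuasiCompact f] (y : Y) (h : ∀ x : X, f.base x = y → EGA43.IsUnivOpenAt f x) :
    ∃ (V : Scheme.{u}) (g : V ⟶ Y) (_ : Etale g) (ι : Type u) (_ : Finite ι) (W : ι → (pullback f g).Opens)
      (O : V.Opens), (∀ i, IsFinite ((W i).ι ≫ pullback.snd f g)) ∧ y ∈ g '' (O : Set V) ∧
      ∀ v ∈ O, MoreMor.nGeomConnComp f y ≤ MoreMor.nGeomConnComp f (g v) ∧
        (MoreMor.nGeomConnComp f (g v) = MoreMor.nGeomConnComp f y →
          ∀ p, pullback.snd f g p = v → ∃ i, p ∈ W i) := by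
  let Ω := AlgebraicClosure (Y.residueField y)
  let γ := geoPt Y y
  have hγy : pt γ = y := pt_geoPt Y y
  have hny : MoreMor.nGeomConnComp f y = ENat.card {χ : Spec (CommRingCat.of Ω) ⟶ X // χ ≫ f = γ} := by
    conv_lhs => rw [← hγy]
    exact card_geo f γ
  let Φ : Set (Spec (CommRingCat.of Ω) ⟶ X) := {χ | χ ≫ f = γ}
  have hfin : Φ.Finite := Set.finite_coe_iff.1 (ENat.card_lt_top.1 (hny ▸ nGeomConnComp_lt_top f y))
  have : Finite Φ := hfin
  obtain ⟨V, g, hg, γ', hγ', hW⟩ := exists_isolating_family f γ Φ hfin fun χ hχ => hχ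
  choose W hWfin hWl using fun χ : Φ => hW χ χ.2
  let v := pt γ'
  have hgv : g v = y := by rw [← hγy, ← hγ', pt_comp]
  let I : ↥Φ → Set V := fun χ => pullback.snd f g '' (W χ : Set ↥(pullback f g))
  let J : ↥Φ × ↥Φ → Set V := fun c => pullback.snd f g '' ((W c.1 : Set ↥(pullback f g)) ∩ W c.2)
  have hclosed : ∀ χ, IsClosed (W χ : Set ↥(pullback f g)) := fun χ => by
    have := hWfin χ
    have : IsFinite (W χ).ι := IsFinite.of_comp _ (pullback.snd f g)
    have h1 := (W χ).ι.isClosedMap.isClosed_range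
    rwa [Scheme.Opens.range_ι] at h1
  have hJ : ∀ c, IsClosed (J c) := fun c => by
    have := hWfin c.1
    have e : J c = ((W c.1).ι ≫ pullback.snd f g) '' ((W c.1).ι ⁻¹' W c.2) := by
      ext w
      constructor
      · rintro ⟨p, ⟨h1, h2⟩, rfl⟩; exact ⟨⟨p, h1⟩, h2, rfl⟩
      · rintro ⟨p, hp, rfl⟩; exact ⟨p.1, ⟨p.2, hp⟩, rfl⟩
    rw [e]
    exact ((W c.1).ι ≫ pullback.snd f g).isClosedMap _ ((hclosed c.2).preimage (W c.1).ι.continuous)
  let D : Set (↥Φ × ↥Φ) := {c | c.1 ≠ c.2}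
  let O : V.Opens := ⟨(⋂ χ, interior (I χ)) ∩ (⋃ c : D, J c.1)ᶜ,
    (isOpen_iInter_of_finite fun χ => isOpen_interior).inter
      (isClosed_iUnion_of_finite fun (c : D) => hJ c.1).isOpen_compl⟩
  have hvO : v ∈ O := by
    refine ⟨Set.mem_iInter.2 fun χ => mem_interior_iff_mem_nhds.2 ?_, ?_⟩
    · obtain ⟨H, hp⟩ := mem_lifts.1 ((hWl χ).ge rfl : (χ : Spec (CommRingCat.of Ω) ⟶ X) ∈ _)
      have hfst : pullback.fst f g (pt (pullback.lift χ.1 γ' H)) = pt χ.1 := by
        rw [← pt_comp, pullback.lift_fst]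
      have hfx : f.base (pt χ.1) = y := by
        show f (pt χ.1) = y
        rw [← pt_comp, χ.2, hγy]
      have h1 := h _ hfx V g _ hfst _ ((W χ).2.mem_nhds hp)
      rwa [show (pullback.snd f g).base (pt (pullback.lift χ.1 γ' H)) = v by
        show pullback.snd f g _ = v
        rw [← pt_comp, pullback.lift_snd]] at h1
    · simp only [Set.mem_compl_iff, Set.mem_iUnion, not_exists]
      rintro ⟨⟨χ, χ'⟩, hne⟩ ⟨p, ⟨hp, hp'⟩, hpv⟩
      obtain ⟨χ'', hχ'', hall⟩ := exists_geo_of_mem (U := W χ ⊓ W χ') hpv ⟨hp, hp'⟩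
      obtain ⟨H, hm⟩ := mem_lifts.1 hχ''
      have h1 : χ'' ∈ lifts f g (W χ) γ' := mem_lifts.2 ⟨H, hm.1⟩
      have h2 : χ'' ∈ lifts f g (W χ') γ' := mem_lifts.2 ⟨H, hm.2⟩
      rw [hWl] at h1 h2
      exact hne (Subtype.ext ((Set.mem_singleton_iff.1 h1).symm.trans (Set.mem_singleton_iff.1 h2)))
  refine ⟨V, g, hg, Φ, inferInstance, W, O, hWfin, ⟨v, hvO, hgv⟩, fun v₁ hv₁ => ?_⟩
  let δ := geoPt V v₁
  have hδ : pt δ = v₁ := pt_geoPt V v₁
  have hgd : pt (δ ≫ g) = g v₁ := by rw [pt_comp, hδ]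
  have hex : ∀ χ, ∃ χ', χ' ∈ lifts f g (W χ) δ := fun χ => by
    obtain ⟨p, hp, hpv⟩ := interior_subset (Set.mem_iInter.1 hv₁.1 χ)
    obtain ⟨χ', hχ', -⟩ := exists_geo_of_mem (γ := δ) (hpv.trans hδ.symm) hp
    exact ⟨χ', hχ'⟩
  choose ψ hψ using hex
  let Ψ : Φ → {χ // χ ≫ f = δ ≫ g} := fun χ => ⟨ψ χ, (mem_lifts.1 (hψ χ)).1⟩
  have hinj : Function.Injective Ψ := fun χ χ' he => by
    by_contra hne
    obtain ⟨H, hm⟩ := mem_lifts.1 (hψ χ)
    obtain ⟨H', hm'⟩ := mem_lifts.1 (hψ χ')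
    have e : pt (pullback.lift (ψ χ) δ H) = pt (pullback.lift (ψ χ') δ H') := by
      have : ψ χ = ψ χ' := congrArg Subtype.val he
      congr 1
      simp [this]
    refine hv₁.2 (Set.mem_iUnion.2 ⟨⟨(χ, χ'), hne⟩, pt (pullback.lift (ψ χ) δ H), ⟨hm, e ▸ hm'⟩, ?_⟩)
    rw [← pt_comp, pullback.lift_snd, hδ]
  have hcard : MoreMor.nGeomConnComp f (g v₁) = ENat.card {χ // χ ≫ f = δ ≫ g} := by
    rw [← hgd]; exact card_geo f _
  refine ⟨?_, fun heq p hp => ?_⟩
  · rw [hny, hcard]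
    exact ENat.card_le_card_of_injective (f := Ψ) hinj
  · have : Finite {χ // χ ≫ f = δ ≫ g} := ENat.card_lt_top.1 (hcard ▸ nGeomConnComp_lt_top f (g v₁))
    have hsurj : Function.Surjective Ψ := by
      refine (Nat.bijective_iff_injective_and_card Ψ).2 ⟨hinj, ?_⟩ |>.2
      have h1 : ENat.card Φ = ENat.card {χ // χ ≫ f = δ ≫ g} := by
        rw [← hcard, heq, hny]
        rfl
      rwa [ENat.card_eq_coe_natCard, ENat.card_eq_coe_natCard, Nat.cast_inj] at h1
    obtain ⟨χ'', hχ'', hall⟩ := exists_geo_of_mem (U := (⊤ : (pullback f g).Opens)) (hp.trans hδ.symm) trivial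
    obtain ⟨χ, hχ⟩ := hsurj ⟨χ'', (mem_lifts.1 hχ'').1⟩
    refine ⟨χ, hall (W χ) ?_⟩
    have e : ψ χ = χ'' := congrArg Subtype.val hχ
    exact e ▸ hψ χ

/-- Lower semicontinuity of the geometric number of points where `f` is universally open. -/
theorem eventually_le {X Y : Scheme.{u}} (f : X ⟶ Y) [IsSeparated f] [LocallyQuasiFinite f] [LocallyOfFiniteType f]
    [QuasiCompact f] (y : Y) (h : ∀ x : X, f.base x = y → EGA43.IsUnivOpenAt f x) :
    ∃ N ∈ nhds y, ∀ z ∈ N, MoreMor.nGeomConnComp f y ≤ MoreMor.nGeomConnComp f z := by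
  obtain ⟨V, g, _, ι, _, W, O, -, hy, hO⟩ := exists_spread f y h
  refine ⟨g '' (O : Set V), (g.isOpenMap _ O.2).mem_nhds hy, ?_⟩
  rintro _ ⟨v, hv, rfl⟩
  exact (hO v hv).1

/-- Constancy of the geometric number of points gives properness. -/
theorem exists_isProper {X Y : Scheme.{u}} (f : X ⟶ Y) [IsSeparated f] [LocallyQuasiFinite f] [LocallyOfFiniteType f]
    [QuasiCompact f] (y : Y) (h : ∀ x : X, f.base x = y → EGA43.IsUnivOpenAt f x)
    (hc : ∃ N ∈ nhds y, ∀ z ∈ N, MoreMor.nGeomConnComp f z = MoreMor.nGeomConnComp f y) :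
    ∃ U : Y.Opens, y ∈ U ∧ IsProper (f ∣_ U) := by
  obtain ⟨V, g, _, ι, _, W, O, hW, hy, hO⟩ := exists_spread f y h
  obtain ⟨N, hN, hconst⟩ := hc
  obtain ⟨N', hN'sub, hN'o, hyN'⟩ := mem_nhds_iff.1 hN
  let O' : V.Opens := O ⊓ g ⁻¹ᵁ ⟨N', hN'o⟩
  let U : Y.Opens := ⟨g '' (O' : Set V), g.isOpenMap _ O'.2⟩
  have hyU : y ∈ U := by
    obtain ⟨v, hv, rfl⟩ := hy
    exact ⟨v, ⟨hv, hyN'⟩, rfl⟩
  refine ⟨U, hyU, ?_⟩
  let g' : O'.toScheme ⟶ U.toScheme := g.resLE U O' (fun v hv => ⟨v, hv, rfl⟩)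
  let h₀ := g' ≫ U.ι
  have hh₀ : O'.ι ≫ g = h₀ := by simp [h₀, g']
  have : Surjective g' := ⟨fun ⟨z, v, hv, hvz⟩ => ⟨⟨v, hv⟩, Subtype.ext
    ((congr($(hh₀.symm) ⟨v, hv⟩) : U.ι (g' ⟨v, hv⟩) = g v).trans hvz)⟩⟩
  have : Etale g' := inferInstance
  have huc : UniversallyClosed (pullback.snd f h₀) := by
    refine ProperCover.universallyClosed_of_cover _ (fun i => (bc f O'.ι hh₀ ⁻¹ᵁ W i).ι) (fun p => ?_) fun i => ?_
    · have hp : pullback.snd f g (bc f O'.ι hh₀ p) = O'.ι (pullback.snd f h₀ p) := by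
        rw [← Scheme.Hom.comp_apply, bc, pullback.lift_snd, Scheme.Hom.comp_apply]
      have hv := (pullback.snd f h₀ p).2
      obtain ⟨i, hi⟩ := (hO _ hv.1).2 (hconst _ (hN'sub hv.2)) _ hp
      exact ⟨i, ⟨p, hi⟩, rfl⟩
    · have := hW i
      have := isFinite_bc f O'.ι hh₀ (W i)
      infer_instance
  have hprop : UniversallyClosed (pullback.snd f U.ι) :=
    MorphismProperty.of_isPullback_of_descendsAlong
      (Q := @Surjective ⊓ @Flat ⊓ @LocallyOfFinitePresentation) (isPullback_bc f g' rfl).flip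
      ⟨⟨inferInstance, inferInstance⟩, inferInstance⟩ huc
  have : UniversallyClosed (f ∣_ U) := by
    rw [← (isPullback_morphismRestrict f U).flip.isoPullback_hom_snd]
    infer_instance
  exact {}

theorem isUnivOpenAt {X Y : Scheme.{u}} (f : X ⟶ Y) [UniversallyOpen f] (x : X) : EGA43.IsUnivOpenAt f x :=
  fun _ g w _ _ hU => (pullback.snd f g).isOpenMap.image_mem_nhds hU

end Groth.Agent.GeomCount
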