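import Groth.Agent.GeomCount.Basic
import Groth.Agent.ZarConn.Stein
import Mathlib.Topology.Connected.TotallyDisconnected

/-!
# Geometric components along a closed morphism with geometrically connected fibres
-/

set_option autoImplicit false
universe u
open CategoryTheory Limits AlgebraicGeometry

namespace Groth.Agent.GeomCount

theorem card_components_of_connected {S T : Type u} [TopologicalSpace S] [TopologicalSpace T] (m : S → T)
    (hc : Continuous m) (hcl : IsClosedMap m) (hf : ∀ t, IsConnected (m ⁻¹' {t})) :
    ENat.card (_root_.ConnectedComponents S) = ENat.card (_root_.ConnectedComponents T) := by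
  have hm : Topology.IsCoinducing m :=
    (hcl.isQuotientMap hc fun t => (hf t).nonempty).isCoinducing
  exact ENat.card_congr (Equiv.ofBijective _ (hm.connectedComponentsMap_bijective hf))

theorem card_components_iso {S T : Scheme.{u}} (e : S ≅ T) :
    ENat.card (_root_.ConnectedComponents ↥S) = ENat.card (_root_.ConnectedComponents ↥T) :=
  card_components_of_connected e.hom e.hom.continuous e.hom.isClosedMap fun t => by
    obtain ⟨s, rfl⟩ := e.hom.surjective t
    have : e.hom ⁻¹' {e.hom s} = {s} := Set.ext fun s' => ⟨fun h => e.hom.homeomorph.injective h,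
      fun h => congrArg e.hom h⟩
    rw [this]; exact isConnected_singleton

/-- The base field morphism defining the geometric fibre. -/
noncomputable abbrev sepPt {Y : Scheme.{u}} (y : Y) :
    Spec (CommRingCat.of (SeparableClosure (Y.residueField y))) ⟶ Y :=
  Spec.map (CommRingCat.ofHom (algebraMap (Y.residueField y) (SeparableClosure (Y.residueField y)))) ≫
    Y.fromSpecResidueField y

theorem nGeomConnComp_eq {X Y : Scheme.{u}} (f : X ⟶ Y) (y : Y) :
    MoreMor.nGeomConnComp f y = ENat.card (_root_.ConnectedComponents ↥(pullback f (sepPt y))) :=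
  card_components_iso (pullbackLeftPullbackSndIso f (Y.fromSpecResidueField y)
    (Spec.map (CommRingCat.ofHom (algebraMap (Y.residueField y) (SeparableClosure (Y.residueField y))))))

/-- A closed morphism with geometrically connected fibres preserves the geometric number of components. -/
theorem nGeomConnComp_comp {X Y' Y : Scheme.{u}} (π : X ⟶ Y') (g : Y' ⟶ Y) [UniversallyClosed π]
    [GeometricallyConnected π] (y : Y) :
    MoreMor.nGeomConnComp (π ≫ g) y = MoreMor.nGeomConnComp g y := by
  let t := sepPt y
  let p := pullback.snd π (pullback.fst g t)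
  rw [nGeomConnComp_eq, nGeomConnComp_eq,
    card_components_iso (pullbackRightPullbackFstIso g t π).symm]
  exact card_components_of_connected p p.continuous p.isClosedMap fun z =>
    p.isConnected_preimage_singleton z

theorem nGeomConnComp_congr {X X' Y : Scheme.{u}} (f : X ⟶ Y) (f' : X' ⟶ Y) (e : X ≅ X')
    (he : e.hom ≫ f' = f) (y : Y) : MoreMor.nGeomConnComp f y = MoreMor.nGeomConnComp f' y := by
  rw [← he, nGeomConnComp_eq, nGeomConnComp_eq,
    card_components_iso (pullbackRightPullbackFstIso f' (sepPt y) e.hom).symm]
  exact card_components_iso (asIso (pullback.snd e.hom (pullback.fst f' (sepPt y))))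

/-- Stein factorization computes the geometric number of components. -/
theorem nGeomConnComp_fromNormalization {X Y : Scheme.{u}} (f : X ⟶ Y) [IsProper f]
    [IsLocallyNoetherian Y] (y : Y) :
    MoreMor.nGeomConnComp f y = MoreMor.nGeomConnComp f.fromNormalization y := by
  haveI := ZarConn.geometricallyConnected_toNormalization f
  conv_lhs => rw [← f.toNormalization_fromNormalization]
  exact nGeomConnComp_comp f.toNormalization f.fromNormalization y

/-- Universal openness passes to the second factor along a surjection. -/
theorem isUnivOpenAt_of_comp {X Y' Y : Scheme.{u}} (π : X ⟶ Y') [Surjective π] (g : Y' ⟶ Y) (z : Y')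
    (h : ∀ x, π x = z → EGA43.IsUnivOpenAt (π ≫ g) x) : EGA43.IsUnivOpenAt g z := by
  intro W k w hw U hU
  let m : pullback (π ≫ g) k ⟶ pullback g k :=
    pullback.map _ _ _ _ π (𝟙 _) (𝟙 _) (by simp) (by simp)
  have hm₁ : m ≫ pullback.fst g k = pullback.fst (π ≫ g) k ≫ π := pullback.lift_fst _ _ _
  have hm₂ : m ≫ pullback.snd g k = pullback.snd (π ≫ g) k :=
    (pullback.lift_snd _ _ _).trans (Category.comp_id _)
  have hsq : IsPullback (pullback.fst (π ≫ g) k) m π (pullback.fst g k) :=
    IsPullback.of_bot (by rw [hm₂]; exact IsPullback.of_hasPullback _ _) hm₁.symm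
      (IsPullback.of_hasPullback g k)
  haveI : Surjective m := MorphismProperty.of_isPullback hsq inferInstance
  obtain ⟨v, rfl⟩ := m.surjective w
  have hx : π (pullback.fst (π ≫ g) k v) = z := by
    rw [← hw, ← Scheme.Hom.comp_apply, ← hm₁, Scheme.Hom.comp_apply]
  have h1 := h _ hx W k v rfl (m ⁻¹' U) (m.continuous.continuousAt.preimage_mem_nhds hU)
  rw [← Scheme.Hom.comp_apply, hm₂]
  refine Filter.mem_of_superset h1 ?_
  rintro _ ⟨a, ha, rfl⟩
  exact ⟨m a, ha, by rw [← Scheme.Hom.comp_apply, hm₂]⟩

theorem isUnivOpenAt_fromNormalization {X Y : Scheme.{u}} (f : X ⟶ Y) [IsProper f] (y : Y)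
    (h : ∀ x : X, f.base x = y → EGA43.IsUnivOpenAt f x) (z : f.normalization)
    (hz : f.fromNormalization z = y) : EGA43.IsUnivOpenAt f.fromNormalization z := by
  refine isUnivOpenAt_of_comp f.toNormalization _ z fun x hx => ?_
  rw [f.toNormalization_fromNormalization]
  refine h x ?_
  rw [← hz, ← hx, ← Scheme.Hom.comp_apply, f.toNormalization_fromNormalization]

/-- Lower semicontinuity for proper morphisms. -/
theorem eventually_le_of_isProper {X Y : Scheme.{u}} [IsLocallyNoetherian Y] (f : X ⟶ Y) [IsProper f]
    (y : Y) (h : ∀ x : X, f.base x = y → EGA43.IsUnivOpenAt f x) :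
    ∃ V ∈ nhds y, ∀ z ∈ V, MoreMor.nGeomConnComp f y ≤ MoreMor.nGeomConnComp f z := by
  haveI := ZarConn.isFinite_fromNormalization f
  obtain ⟨V, hV, hle⟩ := eventually_le f.fromNormalization y
    (fun z hz => isUnivOpenAt_fromNormalization f y h z hz)
  exact ⟨V, hV, fun z hz => by
    rw [nGeomConnComp_fromNormalization f, nGeomConnComp_fromNormalization f]; exact hle z hz⟩

end Groth.Agent.GeomCount
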