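import Groth.Agent.GeomCount.DvrSpec
import Mathlib.AlgebraicGeometry.Geometrically.Reduced

/-!
# Local constancy of the geometric number of components
-/

set_option autoImplicit false
universe u
open CategoryTheory Limits AlgebraicGeometry Groth.Agent.Weighting

namespace Groth.Agent.GeomCount

theorem isReduced_pullback_geo {X Y : Scheme.{u}} (f : X ⟶ Y) {Ω : Type u} [Field Ω]
    (γ : Spec (CommRingCat.of Ω) ⟶ Y) (y : Y) (hy : pt γ = y)
    (hred : GeometricallyReduced (f.fiberToSpecResidueField y)) :
    AlgebraicGeometry.IsReduced (pullback f γ) := by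
  subst hy
  obtain ⟨a, ha⟩ : ∃ a : Y.residueField (pt γ) ⟶ CommRingCat.of Ω, Spec.map a ≫ Y.fromSpecResidueField (pt γ) = γ :=
    ⟨_, (Scheme.SpecToEquivOfField Ω Y).left_inv γ⟩
  haveI : AlgebraicGeometry.IsReduced (pullback (pullback.snd f (Y.fromSpecResidueField (pt γ))) (Spec.map a)) :=
    hred.geometrically_isReduced _ _ _ (.of_hasPullback _ _)
  let e := pullbackLeftPullbackSndIso f (Y.fromSpecResidueField (pt γ)) (Spec.map a)
  haveI h2 : AlgebraicGeometry.IsReduced (pullback f (Spec.map a ≫ Y.fromSpecResidueField (pt γ))) :=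
    isReduced_of_isOpenImmersion e.inv
  exact ha ▸ h2

/-- Base change of the geometric number of points. -/
theorem nGeomConnComp_snd {X Y T : Scheme.{u}} (g : X ⟶ Y) [LocallyQuasiFinite g] [QuasiCompact g]
    (h : T ⟶ Y) (t : T) :
    MoreMor.nGeomConnComp (pullback.snd g h) t = MoreMor.nGeomConnComp g (h t) := by
  let γ := geoPt T t
  have ht : pt γ = t := pt_geoPt T t
  rw [← ht, ← pt_comp, card_geo, card_geo]
  refine ENat.card_congr
    { toFun := fun χ => ⟨χ.1 ≫ pullback.fst g h, by rw [Category.assoc, pullback.condition, reassoc_of% χ.2]⟩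
      invFun := fun χ => ⟨pullback.lift χ.1 γ χ.2, pullback.lift_snd _ _ _⟩
      left_inv := fun χ => Subtype.ext (pullback.hom_ext (pullback.lift_fst _ _ _)
        ((pullback.lift_snd _ _ _).trans χ.2.symm))
      right_inv := fun χ => Subtype.ext (pullback.lift_fst _ _ _) }

theorem nGeomConnComp_le_of_specializes {X Y : Scheme.{u}} [IsLocallyNoetherian Y] (f : X ⟶ Y) [IsProper f]
    {y z : Y} (hzy : z ⤳ y) (h : ∀ x : X, f.base x = y → EGA43.IsUnivOpenAt f x)
    (hred : GeometricallyReduced (f.fiberToSpecResidueField y)) :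
    MoreMor.nGeomConnComp f z ≤ MoreMor.nGeomConnComp f y := by
  by_cases hne : z = y
  · rw [hne]
  let π := f.toNormalization
  let g := f.fromNormalization
  haveI : IsFinite g := ZarConn.isFinite_fromNormalization f
  haveI : GeometricallyConnected π := ZarConn.geometricallyConnected_toNormalization f
  obtain ⟨A, _, _, _, hA, hc, hη, -, -⟩ := DvrGeom.exists_dvr_realizing g y z hne hzy
  let gA := pullback.snd g hA
  let π' := pullback.snd π (pullback.fst g hA)
  let fA := π' ≫ gA
  have sq : IsPullback (pullback.fst π (pullback.fst g hA)) fA f hA := by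
    have := (IsPullback.of_hasPullback π (pullback.fst g hA)).paste_vert (IsPullback.of_hasPullback g hA)
    rwa [show π ≫ g = f from f.toNormalization_fromNormalization] at this
  haveI : IsProper fA := MorphismProperty.of_isPullback sq inferInstance
  haveI : GeometricallyConnected π' := MorphismProperty.pullback_snd _ _ ‹GeometricallyConnected π›
  haveI : IsProper π' := MorphismProperty.pullback_snd _ _ (inferInstance : IsProper π)
  have key : ∀ t, MoreMor.nGeomConnComp fA t = MoreMor.nGeomConnComp f (hA t) := fun t => by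
    show MoreMor.nGeomConnComp (π' ≫ gA) t = _
    rw [nGeomConnComp_comp π' gA, nGeomConnComp_snd, nGeomConnComp_fromNormalization f]
  rw [← hc, ← hη, ← key, ← key]
  refine nGeomConnComp_generic_le fA ?_ fun Ω _ _ γ hγ => ?_
  · rw [dense_iff_inter_open]
    intro W hW hWne
    by_contra hcon
    obtain ⟨w, hw⟩ := hWne
    have hall : ∀ x ∈ W, fA x = IsLocalRing.closedPoint A := fun x hx => by
      by_contra hne'
      exact hcon ⟨x, hx, hne'⟩
    let e := sq.isoPullback
    have hopen : EGA43.IsUnivOpenAt f (pullback.fst π (pullback.fst g hA) w) := by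
      refine h _ ?_
      show f (pullback.fst π (pullback.fst g hA) w) = y
      rw [← Scheme.Hom.comp_apply, sq.w, Scheme.Hom.comp_apply, hall w hw]
      exact hc
    have hfst : pullback.fst f hA (e.hom w) = pullback.fst π (pullback.fst g hA) w := by
      rw [← Scheme.Hom.comp_apply, IsPullback.isoPullback_hom_fst]
    have himg := hopen _ hA (e.hom w) hfst (e.hom '' W)
      ((e.hom.isOpenMap _ hW).mem_nhds ⟨w, hw, rfl⟩)
    have hc' : pullback.snd f hA (e.hom w) = IsLocalRing.closedPoint A := by
      rw [← Scheme.Hom.comp_apply, IsPullback.isoPullback_hom_snd]; exact hall w hw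
    rw [hc'] at himg
    obtain ⟨U, hUsub, hUo, hcU⟩ := mem_nhds_iff.mp himg
    obtain ⟨_, ⟨x, hx, rfl⟩, hxη⟩ := hUsub
      ((IsLocalRing.specializes_closedPoint (genericPoint ↥(Spec (CommRingCat.of A)))).mem_open hUo hcU)
    rw [← Scheme.Hom.comp_apply, IsPullback.isoPullback_hom_snd, hall x hx] at hxη
    exact hne (by rw [← hη, ← hc, hxη])
  · have : AlgebraicGeometry.IsReduced (pullback f (γ ≫ hA)) :=
      isReduced_pullback_geo f (γ ≫ hA) y (by rw [pt_comp, hγ]; exact hc) hred
    exact isReduced_of_isOpenImmersion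
      ((pullback.congrHom rfl rfl).hom ≫ (((IsPullback.of_hasPullback fA γ).paste_horiz sq).isoPullback).hom)

/-- The geometric number of components is constant near a universally open geometrically reduced fibre. -/
theorem eventually_eq {X Y : Scheme.{u}} [IsLocallyNoetherian Y] (f : X ⟶ Y) [IsProper f] (y : Y)
    (h : ∀ x : X, f.base x = y → EGA43.IsUnivOpenAt f x)
    (hred : GeometricallyReduced (f.fiberToSpecResidueField y)) :
    ∃ V ∈ nhds y, ∀ z ∈ V, MoreMor.nGeomConnComp f z = MoreMor.nGeomConnComp f y := by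
  haveI := ZarConn.isFinite_fromNormalization f
  obtain ⟨V, hV, hle⟩ := eventually_le_of_isProper f y h
  obtain ⟨V', hV', hge⟩ := eventually_ge f.fromNormalization y fun z hz => by
    rw [← nGeomConnComp_fromNormalization f, ← nGeomConnComp_fromNormalization f]
    exact nGeomConnComp_le_of_specializes f hz h hred
  refine ⟨V ∩ V', Filter.inter_mem hV hV', fun z hz => le_antisymm ?_ (hle z hz.1)⟩
  rw [nGeomConnComp_fromNormalization f, nGeomConnComp_fromNormalization f]
  exact hge z hz.2

end Groth.Agent.GeomCount
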