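import Groth.Agent.GeomCount.Compose
import Groth.Agent.SectExt.Basic
import Mathlib.AlgebraicGeometry.Noetherian
import Mathlib.AlgebraicGeometry.Morphisms.FinitePresentation

/-!
# Constructibility of the geometric number of points
-/

set_option autoImplicit false
universe u
open CategoryTheory Limits AlgebraicGeometry Groth.Agent.Weighting Topology

namespace Groth.Agent.GeomCount

variable {X Y : Scheme.{u}}

theorem comp_snd_eq_of_mem_range {P : Scheme.{u}} (g : X ⟶ Y) [IsSeparated g] (p : P ⟶ Y) (a : P ⟶ X)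
    (ha : a ≫ g = p) {Ω : Type u} [Field Ω] (δ : Spec (CommRingCat.of Ω) ⟶ pullback p g)
    (hδ : pt δ ∈ Set.range (pullback.lift (f := p) (g := g) (𝟙 P) a (by simp [ha]))) :
    δ ≫ pullback.snd p g = δ ≫ pullback.fst p g ≫ a := by
  let s : P ⟶ pullback p g := pullback.lift (𝟙 P) a (by simp [ha])
  haveI : IsClosedImmersion (s ≫ pullback.fst p g) := by
    rw [show s ≫ pullback.fst p g = 𝟙 P from pullback.lift_fst _ _ _]; infer_instance
  haveI : IsClosedImmersion s := IsClosedImmersion.of_comp s (pullback.fst p g)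
  haveI : Surjective (pullback.fst δ s) := by
    refine ⟨fun x => ?_⟩
    have : x ∈ Set.range (pullback.fst δ s) := by
      rw [Scheme.Pullback.range_fst, Set.mem_preimage]
      have hx : x = IsLocalRing.closedPoint Ω := Subsingleton.elim (α := PrimeSpectrum Ω) _ _
      rw [hx]
      exact hδ
    exact this
  haveI : IsReduced (Spec (CommRingCat.of Ω)) := inferInstance
  haveI : IsIso (pullback.fst δ s) := isIso_of_isClosedImmersion_of_surjective (pullback.fst δ s)
  have h : δ = (inv (pullback.fst δ s) ≫ pullback.snd δ s) ≫ s := by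
    rw [Category.assoc, ← pullback.condition, IsIso.inv_hom_id_assoc]
  rw [h]
  simp only [Category.assoc]
  show inv (pullback.fst δ s) ≫ pullback.snd δ s ≫ s ≫ pullback.snd p g =
    inv (pullback.fst δ s) ≫ pullback.snd δ s ≫ s ≫ pullback.fst p g ≫ a
  rw [show s ≫ pullback.snd p g = a from pullback.lift_snd _ _ _,
    reassoc_of% (show s ≫ pullback.fst p g = 𝟙 P from pullback.lift_fst _ _ _)]

/-- The scheme of tuples of distinct geometric points in the fibres. -/
theorem exists_tuples [IsLocallyNoetherian Y] (g : X ⟶ Y) [IsSeparated g] [LocallyOfFiniteType g]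
    [QuasiCompact g] (m : ℕ) :
    ∃ (P : Scheme.{u}) (p : P ⟶ Y) (_ : LocallyOfFiniteType p) (_ : QuasiCompact p) (a : Fin m → (P ⟶ X)),
      (∀ i, a i ≫ g = p) ∧
      (∀ (Ω : Type u) [Field Ω] (δ : Spec (CommRingCat.of Ω) ⟶ P), Function.Injective fun i => δ ≫ a i) ∧
      (∀ (Ω : Type u) [Field Ω] (γ : Spec (CommRingCat.of Ω) ⟶ Y) (χ : Fin m → (Spec (CommRingCat.of Ω) ⟶ X)),
        (∀ i, χ i ≫ g = γ) → Function.Injective χ → ∃ δ, δ ≫ p = γ ∧ ∀ i, δ ≫ a i = χ i) := by
  induction m with
  | zero => exact ⟨Y, 𝟙 Y, inferInstance, inferInstance, Fin.elim0, fun i => i.elim0,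
      fun _ _ _ i => i.elim0, fun _ _ γ _ _ _ => ⟨γ, Category.comp_id γ, fun i => i.elim0⟩⟩
  | succ m ih =>
    obtain ⟨P, p, _, _, a, ha, hinj, huniv⟩ := ih
    haveI : IsLocallyNoetherian P := LocallyOfFiniteType.isLocallyNoetherian p
    let s : Fin m → (P ⟶ pullback p g) := fun i => pullback.lift (𝟙 P) (a i) (by simp [ha i])
    have hs : ∀ i, IsClosed (Set.range (s i)) := fun i => by
      haveI : IsClosedImmersion (s i ≫ pullback.fst p g) := by
        rw [show s i ≫ pullback.fst p g = 𝟙 P from pullback.lift_fst _ _ _]; infer_instance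
      haveI : IsClosedImmersion (s i) := IsClosedImmersion.of_comp (s i) (pullback.fst p g)
      exact (s i).isClosedEmbedding.isClosed_range
    let U : (pullback p g).Opens := ⟨(⋃ i, Set.range (s i))ᶜ, (isClosed_iUnion_of_finite hs).isOpen_compl⟩
    haveI : IsLocallyNoetherian (pullback p g) := LocallyOfFiniteType.isLocallyNoetherian (pullback.fst p g)
    let q : (U : Scheme.{u}) ⟶ P := U.ι ≫ pullback.fst p g
    refine ⟨U, q ≫ p, inferInstance, inferInstance,
      Fin.snoc (fun i => q ≫ a i) (U.ι ≫ pullback.snd p g), fun i => ?_, fun Ω _ δ => ?_,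
      fun Ω _ γ χ hχ hχinj => ?_⟩
    · induction i using Fin.lastCases with
      | last => rw [Fin.snoc_last, Category.assoc, ← pullback.condition, Category.assoc]
      | cast i => rw [Fin.snoc_castSucc, Category.assoc, ha i]
    · have key : ∀ i : Fin m, δ ≫ q ≫ a i ≠ δ ≫ U.ι ≫ pullback.snd p g := by
        intro i hi
        have hδ' : δ ≫ U.ι = (δ ≫ q) ≫ s i := by
          apply pullback.hom_ext
          · rw [Category.assoc, Category.assoc, pullback.lift_fst]
            simp [q]
          · rw [Category.assoc, Category.assoc, pullback.lift_snd]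
            exact hi.symm.trans (by simp)
        have hmem : U.ι (pt δ) ∈ Set.range (s i) := ⟨pt (δ ≫ q), by
          rw [← pt_comp, ← pt_comp, hδ']⟩
        have hU : U.ι (pt δ) ∈ U := (pt δ).2
        exact hU (Set.mem_iUnion.mpr ⟨i, hmem⟩)
      intro i j hij
      induction i using Fin.lastCases with
      | last =>
        induction j using Fin.lastCases with
        | last => rfl
        | cast j =>
          simp only [Fin.snoc_last, Fin.snoc_castSucc] at hij
          exact absurd hij.symm (key j)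
      | cast i =>
        induction j using Fin.lastCases with
        | last =>
          simp only [Fin.snoc_last, Fin.snoc_castSucc] at hij
          exact absurd hij (key i)
        | cast j =>
          simp only [Fin.snoc_castSucc] at hij
          exact congrArg Fin.castSucc (hinj Ω (δ ≫ q) (a₁ := i) (a₂ := j) (by simpa using hij))
    · obtain ⟨δ₀, hδ₀, hδa⟩ := huniv Ω γ (fun i => χ i.castSucc) (fun i => hχ _)
        (hχinj.comp (Fin.castSucc_injective m))
      let δ₁ : Spec (CommRingCat.of Ω) ⟶ pullback p g := pullback.lift δ₀ (χ (Fin.last m)) (by rw [hδ₀, hχ])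
      have hmem : pt δ₁ ∈ U := by
        intro hc
        obtain ⟨i, hi⟩ := Set.mem_iUnion.mp hc
        have := comp_snd_eq_of_mem_range g p (a i) (ha i) δ₁ hi
        rw [pullback.lift_snd, pullback.lift_fst_assoc, hδa i] at this
        exact (Fin.castSucc_ne_last i) (hχinj this.symm)
      have hr : Set.range δ₁ ⊆ Set.range U.ι := by
        rintro _ ⟨x, rfl⟩
        rw [Scheme.Opens.range_ι]
        have hx : x = IsLocalRing.closedPoint Ω := Subsingleton.elim (α := PrimeSpectrum Ω) _ _
        rw [hx]; exact hmem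
      refine ⟨IsOpenImmersion.lift U.ι δ₁ hr, ?_, fun i => ?_⟩
      · rw [Category.assoc, IsOpenImmersion.lift_fac_assoc, pullback.lift_fst_assoc, hδ₀]
      · induction i using Fin.lastCases with
        | last => rw [Fin.snoc_last, IsOpenImmersion.lift_fac_assoc, pullback.lift_snd]
        | cast i =>
          rw [Fin.snoc_castSucc]
          simp only [q, Category.assoc]
          rw [IsOpenImmersion.lift_fac_assoc, pullback.lift_fst_assoc, hδa i]

theorem isLocallyConstructible_le [IsLocallyNoetherian Y] (g : X ⟶ Y) [IsSeparated g]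
    [LocallyQuasiFinite g] [LocallyOfFiniteType g] [QuasiCompact g] (m : ℕ) :
    IsLocallyConstructible {z : Y | (m : ℕ∞) ≤ MoreMor.nGeomConnComp g z} := by
  obtain ⟨P, p, _, _, a, ha, hinj, huniv⟩ := exists_tuples g m
  have he : {z : Y | (m : ℕ∞) ≤ MoreMor.nGeomConnComp g z} = p '' Set.univ := by
    ext z
    rw [Set.image_univ, Set.mem_ofPred_eq]
    constructor
    · intro hz
      let γ := geoPt Y z
      rw [← pt_geoPt Y z, card_geo g γ] at hz
      have : ∃ χ : Fin m → {χ // χ ≫ g = γ}, Function.Injective χ := by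
        by_cases hfin : Finite {χ // χ ≫ g = γ}
        · have : Fintype {χ // χ ≫ g = γ} := Fintype.ofFinite _
          rw [ENat.card_eq_coe_fintype_card, Nat.cast_le] at hz
          obtain ⟨e⟩ := Function.Embedding.nonempty_of_card_le (α := Fin m) (β := {χ // χ ≫ g = γ})
            (by simpa using hz)
          exact ⟨e, e.injective⟩
        · have : Infinite {χ // χ ≫ g = γ} := not_finite_iff_infinite.mp hfin
          exact ⟨fun i => Infinite.natEmbedding _ i.1, (Infinite.natEmbedding _).injective.comp Fin.val_injective⟩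
      obtain ⟨χ, hχ⟩ := this
      obtain ⟨δ, hδ, -⟩ := huniv _ γ (fun i => (χ i).1) (fun i => (χ i).2) (Subtype.val_injective.comp hχ)
      exact ⟨pt δ, by rw [← pt_comp, hδ, pt_geoPt]⟩
    · rintro ⟨w, rfl⟩
      let δ := geoPt P w
      have hw : pt (δ ≫ p) = p w := by rw [pt_comp, pt_geoPt]
      rw [← hw, card_geo g (δ ≫ p)]
      refine le_trans (le_of_eq (by simp)) (ENat.card_le_card_of_injective
        (f := fun i : Fin m => (⟨δ ≫ a i, by rw [Category.assoc, ha i]⟩ : {χ // χ ≫ g = δ ≫ p}))
        fun i j hij => hinj _ δ (congrArg Subtype.val hij))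
  haveI : LocallyOfFinitePresentation p := inferInstance
  rw [he]
  exact p.isLocallyConstructible_image (IsConstructible.univ.isLocallyConstructible)

/-- A point in the closure of a locally constructible set is a specialisation of one of its points. -/
theorem exists_generization_mem [IsLocallyNoetherian Y] {E : Set Y} (hE : IsLocallyConstructible E) {y : Y}
    (hy : y ∈ closure E) : ∃ z ∈ E, z ⤳ y := by
  obtain ⟨V, hV, hyV, -⟩ := exists_isAffineOpen_mem_and_subset (X := Y) (x := y) (U := ⊤) trivial
  haveI : IsAffine (V : Scheme.{u}) := hV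
  haveI : AlgebraicGeometry.IsNoetherian (V : Scheme.{u}) := ⟨⟩
  haveI : PrespectralSpace ↥(V : Scheme.{u}) := inferInstance
  let e : ↥(V : Scheme.{u}) → Y := fun v => v.1
  have he : IsOpenEmbedding e := V.isOpenEmbedding
  have hE' : IsConstructible (e ⁻¹' E) :=
    (hE.preimage_of_isOpenEmbedding he).isConstructible
  have hy' : (⟨y, hyV⟩ : ↥(V : Scheme.{u})) ∈ closure (e ⁻¹' E) := by
    rw [← he.isOpenMap.preimage_closure_eq_closure_preimage he.continuous]
    exact hy
  suffices h : ∀ s : Set ↥(V : Scheme.{u}), IsConstructible s → ∀ x ∈ closure s, ∃ z ∈ s, z ⤳ x by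
    obtain ⟨z, hz, hzy⟩ := h _ hE' _ hy'
    exact ⟨z.1, hz, hzy.map he.continuous⟩
  have hbasis : TopologicalSpace.IsTopologicalBasis
      (Set.range fun U : TopologicalSpace.Opens ↥(V : Scheme.{u}) => (U : Set ↥(V : Scheme.{u}))) :=
    TopologicalSpace.isTopologicalBasis_of_isOpen_of_nhds (by rintro _ ⟨U, rfl⟩; exact U.2)
      (fun a s ha hs => ⟨s, ⟨⟨s, hs⟩, rfl⟩, ha, subset_rfl⟩)
  intro s hs
  induction s, hs using IsConstructible.induction_of_isTopologicalBasis
      (fun U : TopologicalSpace.Opens ↥(V : Scheme.{u}) => (U : Set ↥(V : Scheme.{u}))) hbasis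
      (fun U => TopologicalSpace.NoetherianSpace.isCompact _) with
  | sdiff U t ht =>
    intro x hx
    exact SectExt.exists_specializes_of_mem_closure (F := (⋃ j ∈ t, (j : Set ↥(V : Scheme.{u})))ᶜ) U.2
      (isOpen_biUnion fun j _ => j.2).isClosed_compl hx
  | union s hs t ht ihs iht =>
    intro x hx
    rw [closure_union] at hx
    rcases hx with hx | hx
    · obtain ⟨z, hz, h⟩ := ihs x hx; exact ⟨z, Or.inl hz, h⟩
    · obtain ⟨z, hz, h⟩ := iht x hx; exact ⟨z, Or.inr hz, h⟩

/-- Upper semicontinuity from the bound at generisations. -/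
theorem eventually_ge [IsLocallyNoetherian Y] (g : X ⟶ Y) [IsSeparated g] [LocallyQuasiFinite g]
    [LocallyOfFiniteType g] [QuasiCompact g] (y : Y)
    (h : ∀ z, z ⤳ y → MoreMor.nGeomConnComp g z ≤ MoreMor.nGeomConnComp g y) :
    ∃ V ∈ nhds y, ∀ z ∈ V, MoreMor.nGeomConnComp g z ≤ MoreMor.nGeomConnComp g y := by
  obtain ⟨n, hn⟩ := ENat.ne_top_iff_exists.mp (nGeomConnComp_lt_top g y).ne
  let E := {z : Y | ((n + 1 : ℕ) : ℕ∞) ≤ MoreMor.nGeomConnComp g z}
  refine ⟨(closure E)ᶜ, isClosed_closure.isOpen_compl.mem_nhds fun hy => ?_, fun z hz => ?_⟩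
  · obtain ⟨z, hz, hzy⟩ := exists_generization_mem (isLocallyConstructible_le g (n + 1)) hy
    have h1 : ((n + 1 : ℕ) : ℕ∞) ≤ (n : ℕ∞) := le_trans hz (hn ▸ h z hzy)
    exact absurd (Nat.cast_le.mp h1) (by omega)
  · rw [← hn]
    by_contra hc
    exact hz (subset_closure (by
      show ((n + 1 : ℕ) : ℕ∞) ≤ MoreMor.nGeomConnComp g z
      push_cast
      exact Order.add_one_le_of_lt (not_le.mp hc)))

end Groth.Agent.GeomCount
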