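import Groth.Agent.GeomCount.Constr
import Groth.Agent.GeomRedAt.InsepScheme
import Groth.Agent.ZarConn.Zariski
import Mathlib.LinearAlgebra.FreeModule.PID
import Mathlib.LinearAlgebra.FreeModule.Finite.Matrix
import Mathlib.RingTheory.TensorProduct.Pi
import Mathlib.RingTheory.Flat.Basic
import Mathlib.RingTheory.LinearDisjoint

/-!
# Specialisation of geometric components over a discrete valuation ring
-/

set_option autoImplicit false
universe u
open CategoryTheory Limits AlgebraicGeometry TopologicalSpace Opposite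
open scoped TensorProduct

namespace Groth.Agent.GeomCount

section Algebra

variable {A : Type u} [CommRing A] [IsLocalRing A] {B : Type u} [CommRing B] [Algebra A B]
  {Ω : Type u} [Field Ω] [Algebra A Ω]

theorem injective_tensor_of_residue {ι : Type u} [Fintype ι] [DecidableEq ι] (C : ι → Type u) [∀ i, CommRing (C i)] [∀ i, Algebra A (C i)]
    (φ : ∀ i, B →ₐ[A] C i) (hker : ∀ a ∈ IsLocalRing.maximalIdeal A, algebraMap A Ω a = 0)
    (hsat : ∀ b, (∀ i, φ i b ∈ (IsLocalRing.maximalIdeal A).map (algebraMap A (C i))) →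
      b ∈ (IsLocalRing.maximalIdeal A).map (algebraMap A B)) (x : Ω ⊗[A] B)
    (hx : ∀ i, Algebra.TensorProduct.map (AlgHom.id A Ω) (φ i) x = 0) : x = 0 := by
  let k := IsLocalRing.ResidueField A
  let l : k →+* Ω := Ideal.Quotient.lift (IsLocalRing.maximalIdeal A) (algebraMap A Ω) hker
  let := l.toAlgebra
  haveI : IsScalarTower A k Ω := IsScalarTower.of_algebraMap_eq fun _ => rfl
  let Φ : B →ₗ[A] ∀ i, C i := LinearMap.pi fun i => (φ i).toLinearMap
  have hinj : Function.Injective (LinearMap.baseChange k Φ) := by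
    refine (injective_iff_map_eq_zero _).mpr fun z hz => ?_
    obtain ⟨b, rfl⟩ := TensorProduct.mk_surjective A B k
      (by exact IsLocalRing.residue_surjective) z
    have hb : ∀ i, φ i b ∈ (IsLocalRing.maximalIdeal A).map (algebraMap A (C i)) := fun i => by
      have h1 := congrArg (LinearMap.baseChange k (LinearMap.proj (R := A) (φ := fun j => C j) i)) hz
      simp only [TensorProduct.mk_apply, LinearMap.baseChange_tmul, map_zero, LinearMap.proj_apply,
        Φ, LinearMap.pi_apply, AlgHom.toLinearMap_apply] at h1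
      have h1' : (Ideal.Quotient.mk (IsLocalRing.maximalIdeal A) (1 : A)) ⊗ₜ[A] φ i b = 0 := h1
      have h2 := (congrArg (TensorProduct.quotTensorEquivQuotSMul (C i) (IsLocalRing.maximalIdeal A)) h1').trans
        (map_zero _)
      rw [TensorProduct.quotTensorEquivQuotSMul_mk_tmul, one_smul, Submodule.Quotient.mk_eq_zero,
        Ideal.smul_top_eq_map] at h2
      exact h2
    have h3 : (TensorProduct.quotTensorEquivQuotSMul B (IsLocalRing.maximalIdeal A))
        ((Ideal.Quotient.mk _ (1 : A)) ⊗ₜ[A] b) = 0 := by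
      rw [TensorProduct.quotTensorEquivQuotSMul_mk_tmul, one_smul, Submodule.Quotient.mk_eq_zero,
        Ideal.smul_top_eq_map]
      exact hsat b hb
    exact (LinearEquiv.map_eq_zero_iff _).mp h3
  have hinj' : Function.Injective (LinearMap.baseChange Ω Φ) := by
    intro a a' h
    let eB := TensorProduct.AlgebraTensorModule.cancelBaseChange A k Ω Ω B
    let eC := TensorProduct.AlgebraTensorModule.cancelBaseChange A k Ω Ω (∀ i, C i)
    have hsq : ∀ w, LinearMap.baseChange Ω Φ (eB w) = eC (LinearMap.lTensor Ω (LinearMap.baseChange k Φ) w) := by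
      intro w
      induction w using TensorProduct.induction_on with
      | zero => simp
      | tmul o z =>
        induction z using TensorProduct.induction_on with
        | zero => simp
        | tmul c b => simp [eB, eC]
        | add u v hu hv =>
          simp only [TensorProduct.tmul_add, map_add] at hu hv ⊢
          rw [hu, hv]
      | add u v hu hv => simp only [map_add, hu, hv]
    obtain ⟨w, rfl⟩ := eB.surjective a
    obtain ⟨w', rfl⟩ := eB.surjective a'
    rw [hsq, hsq] at h
    exact congrArg eB (Module.Flat.lTensor_preserves_injective_linearMap (M := Ω) _ hinj (eC.injective h))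
  apply hinj'
  rw [map_zero]
  apply (TensorProduct.piRight A A Ω C).injective
  rw [map_zero]
  funext i
  refine Eq.trans ?_ (hx i)
  clear hx
  induction x using TensorProduct.induction_on with
  | zero => simp
  | tmul o b => simp [Φ]
  | add u v hu hv => simp only [map_add, Pi.add_apply, hu, hv]

theorem isReduced_tensor_of_residue {ι : Type u} [Fintype ι] [DecidableEq ι] (C : ι → Type u) [∀ i, CommRing (C i)] [∀ i, Algebra A (C i)]
    (φ : ∀ i, B →ₐ[A] C i) (hker : ∀ a ∈ IsLocalRing.maximalIdeal A, algebraMap A Ω a = 0)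
    (hsat : ∀ b, (∀ i, φ i b ∈ (IsLocalRing.maximalIdeal A).map (algebraMap A (C i))) →
      b ∈ (IsLocalRing.maximalIdeal A).map (algebraMap A B))
    (hred : ∀ i, _root_.IsReduced (Ω ⊗[A] C i)) : _root_.IsReduced (Ω ⊗[A] B) :=
  ⟨fun x hx => injective_tensor_of_residue C φ hker hsat x fun i => (hx.map _).eq_zero⟩

omit [IsLocalRing A] in
theorem card_algHom_le [Module.Finite A B] [Module.Free A B] [StrongRankCondition A] :
    ENat.card (B →ₐ[A] Ω) ≤ Module.finrank A B := by
  have h := card_algHom_le_finrank Ω (Ω ⊗[A] B) Ω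
  rw [Module.finrank_baseChange] at h
  rw [ENat.card_congr (Algebra.TensorProduct.liftEquivRight A Ω B Ω)]
  haveI : Finite (Ω ⊗[A] B →ₐ[Ω] Ω) := inferInstance
  rw [ENat.card_eq_coe_natCard]
  exact_mod_cast h

omit [IsLocalRing A] in
theorem card_algHom_eq_finrank [Module.Finite A B] [Module.Free A B] [StrongRankCondition A] [IsAlgClosed Ω]
    [_root_.IsReduced (Ω ⊗[A] B)] :
    ENat.card (B →ₐ[A] Ω) = Module.finrank A B := by
  refine le_antisymm card_algHom_le ?_
  rw [ENat.card_congr (Algebra.TensorProduct.liftEquivRight A Ω B Ω)]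
  let R := Ω ⊗[A] B
  haveI : IsArtinianRing R := IsArtinianRing.of_finite Ω R
  haveI : Fintype (MaximalSpectrum R) := Fintype.ofFinite _
  have hbij : ∀ I : MaximalSpectrum R, Function.Bijective (algebraMap Ω (R ⧸ I.asIdeal)) := fun I => by
    haveI := I.isMaximal
    exact IsAlgClosed.algebraMap_bijective_of_isIntegral
  let F : MaximalSpectrum R → (R →ₐ[Ω] Ω) := fun I =>
    (AlgEquiv.ofBijective (Algebra.ofId Ω (R ⧸ I.asIdeal)) (hbij I)).symm.toAlgHom.comp (Ideal.Quotient.mkₐ Ω I.asIdeal)
  have hF : Function.Injective F := fun I J h => by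
    have key : ∀ (L : MaximalSpectrum R) (r : R), F L r = 0 ↔ r ∈ L.asIdeal := fun L r => by
      show (AlgEquiv.ofBijective (Algebra.ofId Ω (R ⧸ L.asIdeal)) (hbij L)).symm (Ideal.Quotient.mk _ r) = 0 ↔ _
      rw [AddEquivClass.map_eq_zero_iff, Ideal.Quotient.eq_zero_iff_mem]
    exact MaximalSpectrum.ext (Ideal.ext fun r => by rw [← key, h, key])
  refine le_trans (le_of_eq ?_) (ENat.card_le_card_of_injective hF)
  rw [ENat.card_eq_coe_fintype_card, Nat.cast_inj, ← Module.finrank_baseChange (R := Ω) (S := A) (M' := B)]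
  have e1 : Module.finrank Ω R = Module.finrank Ω (∀ I : MaximalSpectrum R, R ⧸ I.asIdeal) :=
    ((IsArtinianRing.equivPi R).restrictScalars Ω).toLinearEquiv.finrank_eq
  rw [e1, Module.finrank_pi_fintype, Fintype.card, Finset.card_eq_sum_ones]
  refine Finset.sum_congr rfl fun I _ => ?_
  exact ((AlgEquiv.ofBijective (Algebra.ofId Ω (R ⧸ I.asIdeal)) (hbij I)).toLinearEquiv.finrank_eq.symm.trans
    (Module.finrank_self Ω))

end Algebra

open Groth.Agent.Weighting

theorem geometricallyConnected_of_surjective_closedImmersion {X Y : Scheme.{u}} (i : X ⟶ Y)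
    [IsClosedImmersion i] [Surjective i] : GeometricallyConnected i := by
  refine ⟨geometrically_iff_of_isClosedUnderIsomorphisms.mpr fun K _ y => ?_⟩
  let q := pullback.snd i y
  haveI : IsClosedImmersion q := inferInstance
  haveI : Surjective q := inferInstance
  haveI : Subsingleton ↥(pullback i y) :=
    ⟨fun a b => q.isClosedEmbedding.injective ((inferInstance : Subsingleton (PrimeSpectrum K)).elim _ _)⟩
  haveI : Nonempty ↥(pullback i y) := ⟨(q.surjective (IsLocalRing.closedPoint K)).choose⟩
  exact ⟨inferInstance⟩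

/-- Geometric points of an affine scheme over an affine base are algebra maps. -/
theorem card_lifts_spec {A B Ω : Type u} [CommRing A] [CommRing B] [CommRing Ω] [Algebra A B] [Algebra A Ω] :
    ENat.card {χ : Spec (CommRingCat.of Ω) ⟶ Spec (CommRingCat.of B) //
      χ ≫ Spec.map (CommRingCat.ofHom (algebraMap A B)) = Spec.map (CommRingCat.ofHom (algebraMap A Ω))} =
      ENat.card (B →ₐ[A] Ω) := by
  have hcond : ∀ φ : B →ₐ[A] Ω, Spec.map (CommRingCat.ofHom φ.toRingHom) ≫
      Spec.map (CommRingCat.ofHom (algebraMap A B)) = Spec.map (CommRingCat.ofHom (algebraMap A Ω)) := fun φ => by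
    rw [← Spec.map_comp]
    congr 1
    exact CommRingCat.hom_ext φ.comp_algebraMap
  refine (ENat.card_congr (Equiv.ofBijective
    (fun φ : B →ₐ[A] Ω => (⟨_, hcond φ⟩ : {χ : Spec (CommRingCat.of Ω) ⟶ Spec (CommRingCat.of B) //
      χ ≫ Spec.map (CommRingCat.ofHom (algebraMap A B)) = Spec.map (CommRingCat.ofHom (algebraMap A Ω))}))
    ⟨fun φ φ' h => ?_, fun χ => ?_⟩)).symm
  · have := Spec.map_injective (congrArg Subtype.val h)
    exact AlgHom.coe_ringHom_injective (congrArg CommRingCat.Hom.hom this)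
  · obtain ⟨φ, hφ⟩ := Spec.map_surjective χ.1
    have h1 : CommRingCat.ofHom (algebraMap A B) ≫ φ = CommRingCat.ofHom (algebraMap A Ω) := by
      apply Spec.map_injective
      rw [Spec.map_comp, hφ, χ.2]
    exact ⟨{ φ.hom with commutes' := fun a => congr($(h1).hom a) }, Subtype.ext hφ⟩

section Dvr

variable {A : Type u} [CommRing A] [IsDomain A] [IsDiscreteValuationRing A]

theorem nGeomConnComp_spec_le {B : Type u} [CommRing B] [Algebra A B] [Module.Finite A B] [Module.Free A B]
    (Ω : Type u) [Field Ω] [IsAlgClosed Ω] [Algebra A Ω]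
    (hker : RingHom.ker (algebraMap A Ω) = IsLocalRing.maximalIdeal A)
    [_root_.IsReduced (Ω ⊗[A] B)] :
    MoreMor.nGeomConnComp (Spec.map (CommRingCat.ofHom (algebraMap A B))) (genericPoint ↥(Spec (CommRingCat.of A))) ≤
      MoreMor.nGeomConnComp (Spec.map (CommRingCat.ofHom (algebraMap A B))) (IsLocalRing.closedPoint A) := by
  let g := Spec.map (CommRingCat.ofHom (algebraMap A B))
  haveI : IsFinite g := (IsFinite.SpecMap_iff _).mpr (RingHom.finite_algebraMap.mpr inferInstance)
  have hc : pt (Spec.map (CommRingCat.ofHom (algebraMap A Ω))) = IsLocalRing.closedPoint A := by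
    apply PrimeSpectrum.ext
    show Ideal.comap (algebraMap A Ω) (IsLocalRing.maximalIdeal Ω) = IsLocalRing.maximalIdeal A
    rw [IsLocalRing.maximalIdeal_eq_bot, ← hker]
    rfl
  let Ω' := AlgebraicClosure (FractionRing A)
  have hg : pt (Spec.map (CommRingCat.ofHom (algebraMap A Ω'))) = genericPoint ↥(Spec (CommRingCat.of A)) := by
    refine Eq.trans ?_ (genericPoint_eq_bot_of_affine (CommRingCat.of A)).symm
    apply PrimeSpectrum.ext
    show Ideal.comap (algebraMap A Ω') (IsLocalRing.maximalIdeal Ω') = ⊥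
    rw [IsLocalRing.maximalIdeal_eq_bot]
    refine (RingHom.injective_iff_ker_eq_bot _).mp ?_
    rw [IsScalarTower.algebraMap_eq A (FractionRing A) Ω']
    exact (algebraMap (FractionRing A) Ω').injective.comp (IsFractionRing.injective A (FractionRing A))
  rw [← hc, ← hg, card_geo g, card_geo g, card_lifts_spec, card_lifts_spec,
    card_algHom_eq_finrank (Ω := Ω)]
  exact card_algHom_le

/-- Over a discrete valuation ring, the geometric number of components does not go up in the generic fibre
if that fibre is dense and the closed fibre is geometrically reduced. -/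
theorem nGeomConnComp_generic_le {X : Scheme.{u}} (f : X ⟶ Spec (CommRingCat.of A)) [IsProper f]
    (hdense : Dense {x : X | f x ≠ IsLocalRing.closedPoint A})
    (hred : ∀ (Ω : Type u) [Field Ω] [IsAlgClosed Ω] (γ : Spec (CommRingCat.of Ω) ⟶ Spec (CommRingCat.of A)),
      pt γ = IsLocalRing.closedPoint A → AlgebraicGeometry.IsReduced (pullback f γ)) :
    MoreMor.nGeomConnComp f (genericPoint ↥(Spec (CommRingCat.of A))) ≤
      MoreMor.nGeomConnComp f (IsLocalRing.closedPoint A) := by
  classical
  let Z := X.nilradical.subscheme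
  let i : Z ⟶ X := X.nilradical.subschemeι
  haveI : AlgebraicGeometry.IsReduced Z := GeomRedAt.isReduced_nilradical_subscheme X
  haveI : Surjective i := ⟨by
    rw [← Set.range_eq_univ, Scheme.IdealSheafData.range_subschemeι, Scheme.support_nilradical]; rfl⟩
  haveI := geometricallyConnected_of_surjective_closedImmersion i
  let fZ := i ≫ f
  rw [← nGeomConnComp_comp i f, ← nGeomConnComp_comp i f]
  change MoreMor.nGeomConnComp fZ _ ≤ MoreMor.nGeomConnComp fZ _
  let ψ : CommRingCat.of A ⟶ Γ(Z, ⊤) := (Scheme.ΓSpecIso (CommRingCat.of A)).inv ≫ fZ.appTop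
  let := ψ.hom.toAlgebra
  have hfin : Module.Finite A Γ(Z, ⊤) :=
    (ZarConn.finite_appTop fZ).comp
      (RingHom.Finite.of_surjective _ (Scheme.ΓSpecIso (CommRingCat.of A)).symm.commRingCatIsoToRingEquiv.surjective)
  haveI : IsNoetherianRing Γ(Z, ⊤) := IsNoetherianRing.of_finite A _
  let g : Spec Γ(Z, ⊤) ⟶ Spec (CommRingCat.of A) := Spec.map (CommRingCat.ofHom (algebraMap A Γ(Z, ⊤)))
  have hfac : Z.toSpecΓ ≫ g = fZ := by
    show Z.toSpecΓ ≫ Spec.map ((Scheme.ΓSpecIso (CommRingCat.of A)).inv ≫ fZ.appTop) = fZ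
    rw [Spec.map_comp, ← Scheme.toSpecΓ_naturality_assoc, toSpecΓ_SpecMap_ΓSpecIso_inv, Category.comp_id]
  haveI : IsProper Z.toSpecΓ := by
    haveI : IsProper (Z.toSpecΓ ≫ g) := by rw [hfac]; infer_instance
    exact IsProper.of_comp _ g
  have hb : Function.Bijective Z.toSpecΓ.appTop.hom := by
    rw [Scheme.toSpecΓ_appTop]
    exact ConcreteCategory.bijective_of_isIso (Scheme.ΓSpecIso Γ(Z, ⊤)).hom
  haveI := ZarConn.geometricallyConnected_of_bijective Z.toSpecΓ
    (ZarConn.bijective_app_of_cover Z.toSpecΓ (fun _ : Unit => (⊤ : (Spec Γ(Z, ⊤)).Opens))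
      (fun _ => isAffineOpen_top _) (TopologicalSpace.IsOpenCover.mk iSup_const) (fun _ => hb))
  rw [← hfac, nGeomConnComp_comp, nGeomConnComp_comp]
  -- the uniformiser is a nonzerodivisor
  obtain ⟨ϖ, hϖ⟩ := IsDiscreteValuationRing.exists_irreducible A
  let r : ∀ W : Z.Opens, Γ(Z, ⊤) →+* Γ(Z, W) := fun W => (Z.presheaf.map (homOfLE (le_top : W ≤ ⊤)).op).hom
  have hmax := hϖ.maximalIdeal_eq
  have hbo : ∀ x : Z, fZ x ≠ IsLocalRing.closedPoint A → x ∈ Z.basicOpen (ψ.hom ϖ) := fun x hx => by
    refine (congrArg (fun O : Z.Opens => x ∈ O)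
      (Scheme.preimage_basicOpen fZ ((Scheme.ΓSpecIso (CommRingCat.of A)).inv.hom ϖ))).mp ?_
    show fZ x ∈ (Spec (CommRingCat.of A)).basicOpen ((Scheme.ΓSpecIso (CommRingCat.of A)).inv.hom ϖ)
    rw [show (Spec (CommRingCat.of A)).basicOpen ((Scheme.ΓSpecIso (CommRingCat.of A)).inv.hom ϖ) =
      PrimeSpectrum.basicOpen ϖ from basicOpen_eq_of_affine _]
    intro hmem
    apply hx
    apply PrimeSpectrum.ext
    refine ((IsLocalRing.maximalIdeal.isMaximal A).eq_of_le (fZ x).isPrime.ne_top ?_).symm
    rw [hmax, Ideal.span_le, Set.singleton_subset_iff]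
    exact hmem
  have hnzd : ∀ (W : Z.Opens) (a : Γ(Z, W)), r W (ψ.hom ϖ) * a = 0 → a = 0 := fun W a h => by
    rw [← basicOpen_eq_bot_iff]
    by_contra hne
    obtain ⟨x, hxa⟩ : ((Z.basicOpen a : Z.Opens) : Set Z).Nonempty :=
      (Z.basicOpen a).ne_bot_iff_nonempty.mp hne
    obtain ⟨V, hV, hVeq⟩ := i.isClosedEmbedding.isInducing.isOpen_iff.mp (Z.basicOpen a).2
    obtain ⟨y, hyV, hy⟩ := hdense.inter_open_nonempty V hV ⟨i x, by
      have h' : x ∈ i ⁻¹' V := by rw [hVeq]; exact hxa
      exact h'⟩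
    obtain ⟨x', rfl⟩ := i.surjective y
    have hx' : x' ∈ Z.basicOpen a := by
      have h' : x' ∈ i ⁻¹' V := hyV
      rw [hVeq] at h'; exact h'
    have h2 : x' ∈ Z.basicOpen (r W (ψ.hom ϖ) * a) := by
      rw [Scheme.basicOpen_mul]
      refine ⟨?_, hx'⟩
      rw [Scheme.basicOpen_res]
      exact ⟨Z.basicOpen_le a hx', hbo x' hy⟩
    rw [h, Scheme.basicOpen_zero] at h2
    exact h2
  have hr : r ⊤ (ψ.hom ϖ) = ψ.hom ϖ := by
    show (Z.presheaf.map (homOfLE (le_refl (⊤ : Z.Opens))).op).hom _ = _
    rw [Subsingleton.elim (homOfLE (le_refl (⊤ : Z.Opens))) (𝟙 _), op_id, CategoryTheory.Functor.map_id]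
    rfl
  have hpow : ∀ (n : ℕ) (b : Γ(Z, ⊤)), algebraMap A Γ(Z, ⊤) (ϖ ^ n) * b = 0 → b = 0 := by
    intro n
    induction n with
    | zero => intro b hb; simpa using hb
    | succ n ih =>
      intro b hb
      rw [pow_succ, map_mul, mul_assoc] at hb
      refine hnzd ⊤ b ?_
      rw [hr]
      exact ih _ hb
  haveI : Module.IsTorsionFree A Γ(Z, ⊤) := by
    rw [Module.isTorsionFree_iff_smul_eq_zero]
    intro c m hcm
    refine or_iff_not_imp_left.mpr fun hc => ?_
    obtain ⟨n, u, rfl⟩ := IsDiscreteValuationRing.eq_unit_mul_pow_irreducible hc hϖ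
    rw [Algebra.smul_def, map_mul, mul_assoc, (u.isUnit.map _).mul_right_eq_zero] at hcm
    exact hpow n m hcm
  haveI : Module.Free A Γ(Z, ⊤) := Module.free_of_finite_type_torsion_free'
  -- the residual geometric point
  let Ω := AlgebraicClosure (IsLocalRing.ResidueField A)
  have hker : RingHom.ker (algebraMap A Ω) = IsLocalRing.maximalIdeal A := by
    rw [IsScalarTower.algebraMap_eq A (IsLocalRing.ResidueField A) Ω,
      RingHom.ker_comp_of_injective _ (algebraMap (IsLocalRing.ResidueField A) Ω).injective]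
    exact Ideal.mk_ker
  let γ : Spec (CommRingCat.of Ω) ⟶ Spec (CommRingCat.of A) := Spec.map (CommRingCat.ofHom (algebraMap A Ω))
  haveI hXγ : AlgebraicGeometry.IsReduced (pullback f γ) := hred Ω γ (by
    apply PrimeSpectrum.ext
    show Ideal.comap (algebraMap A Ω) (IsLocalRing.maximalIdeal Ω) = IsLocalRing.maximalIdeal A
    rw [IsLocalRing.maximalIdeal_eq_bot, ← hker]
    rfl)
  haveI hZγ : AlgebraicGeometry.IsReduced (pullback fZ γ) := by
    let q := pullback.snd i (pullback.fst f γ)
    haveI : IsClosedImmersion q := inferInstance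
    haveI : Surjective q := inferInstance
    haveI : IsIso q := isIso_of_isClosedImmersion_of_surjective q
    exact isReduced_of_isOpenImmersion ((pullbackRightPullbackFstIso f γ i).inv ≫ q)
  haveI : CompactSpace Z := QuasiCompact.compactSpace_of_compactSpace fZ
  obtain ⟨S, hS⟩ := (isCompact_univ (X := Z)).elim_finite_subcover (fun U : Z.affineOpens => (U.1 : Set Z))
    (fun U => U.1.2) (fun x _ => by
      obtain ⟨W, hW, hxW, -⟩ := exists_isAffineOpen_mem_and_subset (X := Z) (x := x) (U := ⊤) trivial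
      exact Set.mem_iUnion.mpr ⟨⟨W, hW⟩, hxW⟩)
  let C : S → Type u := fun U => Γ(Z, U.1.1)
  letI : ∀ U : S, Algebra A (C U) := fun U => ((r U.1.1).comp ψ.hom).toAlgebra
  let φ : ∀ U : S, Γ(Z, ⊤) →ₐ[A] C U := fun U => { r U.1.1 with commutes' := fun _ => rfl }
  haveI : _root_.IsReduced (Ω ⊗[A] Γ(Z, ⊤)) := by
    refine isReduced_tensor_of_residue C φ (fun a ha => by rw [← hker] at ha; exact ha) ?_ ?_
    · intro b hb
      have hb' : ∀ U : S, ∃ t : C U, r U.1.1 (ψ.hom ϖ) * t = φ U b := fun U => by
        have := hb U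
        rw [hmax, Ideal.map_span, Set.image_singleton, Ideal.mem_span_singleton'] at this
        obtain ⟨t, ht⟩ := this
        exact ⟨t, by rw [mul_comm]; exact ht⟩
      choose t ht using hb'
      have hcompat : TopCat.Presheaf.IsCompatible Z.sheaf.1 (fun U : S => U.1.1) t := fun U V => by
        apply sub_eq_zero.mp
        refine hnzd _ _ ?_
        refine (mul_sub _ _ _).trans ?_
        have key : ∀ (U : S) (W : Z.Opens) (hW : W ≤ U.1.1),
            r W (ψ.hom ϖ) * (Z.presheaf.map (homOfLE hW).op).hom (t U) = r W b := fun U W hW => by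
          have h := congrArg (Z.presheaf.map (homOfLE hW).op).hom (ht U)
          rw [map_mul] at h
          have hr : ∀ s, (Z.presheaf.map (homOfLE hW).op).hom (r U.1.1 s) = r W s := fun s => by
            show (Z.presheaf.map (homOfLE (le_top : U.1.1 ≤ ⊤)).op ≫ Z.presheaf.map (homOfLE hW).op).hom s = _
            rw [← Functor.map_comp]; rfl
          rw [hr] at h
          exact h.trans (hr b)
        exact (sub_eq_zero.mpr ((key U _ inf_le_left).trans (key V _ inf_le_right).symm))
      obtain ⟨s, hs, -⟩ := Z.sheaf.existsUnique_gluing' (fun U : S => U.1.1) ⊤ (fun U => homOfLE le_top)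
        (fun x _ => by
          obtain ⟨U, hU, hxU⟩ := Set.mem_iUnion₂.mp (hS (Set.mem_univ x))
          exact Opens.mem_iSup.mpr ⟨⟨U, hU⟩, hxU⟩) t hcompat
      rw [hmax, Ideal.map_span, Set.image_singleton, Ideal.mem_span_singleton']
      refine ⟨s, ?_⟩
      refine TopCat.Sheaf.eq_of_locally_eq' Z.sheaf (fun U : S => U.1.1) ⊤ (fun U => homOfLE le_top)
        (fun x _ => by
          obtain ⟨U, hU, hxU⟩ := Set.mem_iUnion₂.mp (hS (Set.mem_univ x))
          exact Opens.mem_iSup.mpr ⟨⟨U, hU⟩, hxU⟩) _ _ fun U => ?_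
      refine (map_mul (r U.1.1) _ _).trans ?_
      rw [show r U.1.1 s = t U from hs U, mul_comm]
      exact ht U
    · intro U
      have hU := U.1.2
      have hcomp : hU.fromSpec ≫ fZ = Spec.map (CommRingCat.ofHom (algebraMap A (C U))) := by
        rw [← hfac, IsAffineOpen.fromSpec_toSpecΓ_assoc, ← Spec.map_comp]
        rfl
      haveI : AlgebraicGeometry.IsReduced (pullback γ (hU.fromSpec ≫ fZ)) :=
        isReduced_of_isOpenImmersion
          ((pullbackSymmetry _ _).hom ≫ (pullbackRightPullbackFstIso fZ γ hU.fromSpec).inv ≫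
            pullback.snd hU.fromSpec (pullback.fst fZ γ))
      rw [hcomp] at this
      have := isReduced_of_isOpenImmersion (pullbackSpecIso A Ω (C U)).inv
      exact (affine_isReduced_iff _).mp this
  exact nGeomConnComp_spec_le (B := Γ(Z, ⊤)) Ω hker

end Dvr

end Groth.Agent.GeomCount
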