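import Groth.Agent.GeomCount.Const
import Groth.Agent.FieldExtConn.Conn
import Groth.Prelude.Def_ega3

/-!
# Geometrically connected fibres of dominant proper morphisms with radicial generic Stein factor
-/

set_option autoImplicit false
universe u
open CategoryTheory Limits AlgebraicGeometry Groth.Agent.Weighting

namespace Groth.Agent.GeomCount

variable {A : Type u} [CommRing A] [IsDomain A] [IsDiscreteValuationRing A]

/-- For a finite scheme over a discrete valuation ring with dense generic fibre the geometric number of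
points does not go down in the generic fibre. -/
theorem nGeomConnComp_closed_le {W : Scheme.{u}} (g : W ⟶ Spec (CommRingCat.of A)) [IsFinite g]
    (hdense : ∀ w : W, ∃ z : W, z ⤳ w ∧ g z ≠ IsLocalRing.closedPoint A) :
    MoreMor.nGeomConnComp g (IsLocalRing.closedPoint A) ≤
      MoreMor.nGeomConnComp g (genericPoint ↥(Spec (CommRingCat.of A))) := by
  haveI : IsAffine W := isAffine_of_isAffineHom g
  obtain ⟨ψ, hψ⟩ := Spec.map_surjective (W.isoSpec.inv ≫ g)
  have hfin : ψ.hom.Finite := (IsFinite.SpecMap_iff ψ).mp (hψ ▸ inferInstance)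
  algebraize [ψ.hom]
  let B := Γ(W, ⊤) ⧸ nilradical Γ(W, ⊤)
  let mk : Γ(W, ⊤) ⟶ CommRingCat.of B := CommRingCat.ofHom (Ideal.Quotient.mk (nilradical Γ(W, ⊤)))
  let i : Spec (CommRingCat.of B) ⟶ W := Spec.map mk ≫ W.isoSpec.inv
  haveI : IsClosedImmersion (Spec.map mk) :=
    IsClosedImmersion.spec_of_surjective _ Ideal.Quotient.mk_surjective
  haveI : Surjective (Spec.map mk) := ⟨fun p => by
    have h : (p : PrimeSpectrum Γ(W, ⊤)) ∈ Set.range (PrimeSpectrum.comap (Ideal.Quotient.mk (nilradical Γ(W, ⊤)))) := by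
      rw [range_comap_of_surjective _ _ Ideal.Quotient.mk_surjective, Ideal.mk_ker]
      exact (PrimeSpectrum.mem_zeroLocus _ _).mpr (nilradical_le_prime _)
    exact h⟩
  haveI := geometricallyConnected_of_surjective_closedImmersion i
  have hi : i ≫ g = Spec.map (CommRingCat.ofHom (algebraMap A B)) := by
    rw [Category.assoc, ← hψ, ← Spec.map_comp]; rfl
  rw [← nGeomConnComp_comp i g, ← nGeomConnComp_comp i g, hi]
  haveI : Module.Finite A B := inferInstance
  obtain ⟨ϖ, hϖ⟩ := IsDiscreteValuationRing.exists_irreducible A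
  have hnil : ∀ b : Γ(W, ⊤), algebraMap A Γ(W, ⊤) ϖ * b ∈ nilradical Γ(W, ⊤) → b ∈ nilradical Γ(W, ⊤) := by
    intro b hb
    rw [nilradical_eq_sInf, Ideal.mem_sInf]
    intro P hP
    haveI : P.IsPrime := hP
    let w : W := W.isoSpec.inv ⟨P, hP⟩
    obtain ⟨z, hzw, hz⟩ := hdense w
    have hle : (W.isoSpec.hom z).asIdeal ≤ P := by
      have h1 := hzw.map W.isoSpec.hom.continuous
      rw [show W.isoSpec.hom w = (⟨P, hP⟩ : PrimeSpectrum _) from by
        rw [← Scheme.Hom.comp_apply, Iso.inv_hom_id]; rfl] at h1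
      exact (PrimeSpectrum.le_iff_specializes _ _).mpr h1
    refine hle (((W.isoSpec.hom z).isPrime.mem_or_mem (nilradical_le_prime _ hb)).resolve_left fun hmem => hz ?_)
    apply PrimeSpectrum.ext
    refine ((IsLocalRing.maximalIdeal.isMaximal A).eq_of_le (g z).isPrime.ne_top ?_).symm
    rw [hϖ.maximalIdeal_eq, Ideal.span_le, Set.singleton_subset_iff]
    have hgz : g z = Spec.map ψ (W.isoSpec.hom z) := by
      rw [hψ, ← Scheme.Hom.comp_apply, Iso.hom_inv_id_assoc]
    rw [hgz]
    exact hmem
  haveI : Module.IsTorsionFree A B := by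
    rw [Module.isTorsionFree_iff_smul_eq_zero]
    intro c m hcm
    refine or_iff_not_imp_left.mpr fun hc => ?_
    obtain ⟨n, u, rfl⟩ := IsDiscreteValuationRing.eq_unit_mul_pow_irreducible hc hϖ
    rw [Algebra.smul_def, map_mul, mul_assoc, (u.isUnit.map _).mul_right_eq_zero] at hcm
    obtain ⟨b, rfl⟩ := Ideal.Quotient.mk_surjective m
    rw [Ideal.Quotient.eq_zero_iff_mem]
    rw [show algebraMap A B (ϖ ^ n) = Ideal.Quotient.mk _ (algebraMap A Γ(W, ⊤) (ϖ ^ n)) from rfl,
      ← map_mul, Ideal.Quotient.eq_zero_iff_mem] at hcm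
    clear hc
    induction n with
    | zero => simpa using hcm
    | succ n ih =>
      rw [pow_succ', map_mul, mul_assoc] at hcm
      exact ih (hnil _ hcm)
  haveI : Module.Free A B := Module.free_of_finite_type_torsion_free'
  let g' := Spec.map (CommRingCat.ofHom (algebraMap A B))
  haveI : IsFinite g' := (IsFinite.SpecMap_iff _).mpr (RingHom.finite_algebraMap.mpr ‹Module.Finite A B›)
  haveI : Flat g' := (HasRingHomProperty.Spec_iff (P := @Flat)).mpr
    (RingHom.flat_algebraMap_iff.mpr inferInstance)
  haveI : LocallyOfFinitePresentation g' := inferInstance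
  obtain ⟨V, hV, hle⟩ := eventually_le g' (IsLocalRing.closedPoint A) fun x _ => isUnivOpenAt g' x
  obtain ⟨U, hUV, hUo, hcU⟩ := mem_nhds_iff.mp hV
  exact hle _ (hUV ((IsLocalRing.specializes_closedPoint _).mem_open hUo hcU))

/-- The geometric number of points in the generic fibre of a radicial factor is at most one. -/
theorem nGeomConnComp_generic_le_one {X Y' Y : Scheme.{u}} [IsIntegral X] [IsIntegral Y]
    (π : X ⟶ Y') [Surjective π] (g : Y' ⟶ Y) [IsFinite g] (f : X ⟶ Y) (hf : π ≫ g = f)
    (hdom : f.base (genericPoint X) ⤳ genericPoint Y)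
    (hrad : ∀ x : X.functionField,
      (∃ q : Polynomial Y.functionField, q ≠ 0 ∧
        Polynomial.eval₂ (CohIII.stalkToFunctionField f (genericPoint Y) hdom) x q = 0) →
      ∃ e : ℕ, x ^ (ringExpChar X.functionField ^ e) ∈
        Set.range (CohIII.stalkToFunctionField f (genericPoint Y) hdom)) :
    MoreMor.nGeomConnComp g (genericPoint Y) ≤ 1 := by
  subst hf
  set ξ := genericPoint X with hξdef
  let u := π ξ
  have hu : g u = genericPoint Y :=
    (hdom.antisymm ((genericPoint_spec Y).specializes trivial)).eq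
  haveI : DiscreteTopology ↥(g ⁻¹' {genericPoint Y}) :=
    @Homeomorph.discreteTopology _ _ _ _ (inferInstance : DiscreteTopology ↥(g.fiber (genericPoint Y)))
      (g.fiberHomeo (genericPoint Y))
  have huniq : ∀ v, g v = genericPoint Y → v = u := fun v hv => by
    obtain ⟨x, rfl⟩ := π.surjective v
    have hsp : u ⤳ π x := ((genericPoint_spec X).specializes trivial).map π.continuous
    have hsub : (⟨u, hu⟩ : ↥(g ⁻¹' {genericPoint Y})) ⤳ ⟨π x, hv⟩ :=
      Topology.IsInducing.subtypeVal.specializes_iff.mp hsp
    exact congrArg Subtype.val hsub.eq.symm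
  let γ := geoPt Y (genericPoint Y)
  rw [← pt_geoPt Y (genericPoint Y), card_geo g γ]
  letI := (g.residueFieldMap u).hom.toAlgebra
  haveI : Module.Finite (Y.residueField (g u)) (Y'.residueField u) :=
    RingHom.finite_algebraMap.1 (residueFieldMap_finite g u)
  haveI : IsPurelyInseparable (Y.residueField (g u)) (Y'.residueField u) := by
    haveI : ExpChar (Y.residueField (g u)) (ringExpChar (Y.residueField (g u))) := ringExpChar.expChar _
    rw [isPurelyInseparable_iff_pow_mem _ (ringExpChar (Y.residueField (g u)))]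
    intro a
    let r : X.functionField →+* X.residueField ξ := (X.residue ξ).hom
    have hr : Function.Bijective r := ⟨r.injective, X.residue_surjective ξ⟩
    let s := CohIII.stalkToFunctionField (π ≫ g) (genericPoint Y) hdom
    let c : Y.presheaf.stalk (genericPoint Y) →+* Y.residueField (g u) :=
      (Y.residue (g u)).hom.comp (Y.presheaf.stalkSpecializes hdom).hom
    let πr := (π.residueFieldMap ξ).hom
    let gr := (g.residueFieldMap u).hom
    have hsq : ∀ t, r (s t) = πr (gr (c t)) := fun t => by
      show ((Y.presheaf.stalkSpecializes hdom ≫ (π ≫ g).stalkMap ξ) ≫ X.residue ξ).hom t = _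
      rw [Category.assoc, ← Scheme.residue_residueFieldMap, Scheme.residueFieldMap_comp]
      rfl
    have hc : Function.Surjective c := fun t => by
      obtain ⟨t, rfl⟩ := Y.residue_surjective (g u) t
      have hsp : genericPoint Y ⤳ (π ≫ g) ξ := (genericPoint_spec Y).specializes trivial
      refine ⟨(Y.presheaf.stalkSpecializes hsp).hom t, congrArg (Y.residue (g u)).hom ?_⟩
      show (Y.presheaf.stalkSpecializes hsp ≫ Y.presheaf.stalkSpecializes hdom).hom t = _
      rw [TopCat.Presheaf.stalkSpecializes_comp]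
      exact congr($(TopCat.Presheaf.stalkSpecializes_refl Y.presheaf _).hom t)
    obtain ⟨x, hx⟩ := hr.2 (πr a)
    obtain ⟨q₀, hq₀, hq₀a⟩ := Algebra.IsIntegral.isIntegral (R := Y.residueField (g u)) a
    obtain ⟨q, hq, -, hqm⟩ := Polynomial.lifts_and_degree_eq_and_monic
      ((Polynomial.lifts_iff_coeff_lifts (f := c) q₀).mpr fun n => hc _) hq₀
    obtain ⟨e, t, ht⟩ := hrad x ⟨q, hqm.ne_zero, hr.1 (by
      rw [map_zero, Polynomial.hom_eval₂, hx]
      have : r.comp s = (πr.comp gr).comp c := RingHom.ext hsq
      rw [this, ← Polynomial.eval₂_map, hq, ← Polynomial.hom_eval₂]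
      exact (congrArg πr hq₀a).trans (map_zero _))⟩
    refine ⟨e, c t, πr.injective ?_⟩
    have hchar : ringExpChar X.functionField = ringExpChar (Y.residueField (g u)) := by
      haveI : ExpChar (X.residueField ξ) (ringExpChar (Y.residueField (g u))) :=
        expChar_of_injective_ringHom (πr.comp gr).injective _
      haveI : ExpChar X.functionField (ringExpChar (Y.residueField (g u))) :=
        (RingHom.expChar_iff r r.injective _).mpr inferInstance
      exact ringExpChar.eq _ _
    show πr (gr (c t)) = _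
    rw [← hsq, show s t = _ from ht, map_pow, hx, map_pow, hchar]
  obtain ⟨_, hcard, -⟩ := card_fibre g γ u (by rw [hu, pt_geoPt])
  have hsub : Subsingleton {τ : Y'.residueField u ⟶ CommRingCat.of _ //
      Spec.map τ ≫ Y'.fromSpecResidueField u ≫ g = γ} :=
    (Nat.card_eq_one_iff_unique.mp
      (hcard.trans (IsPurelyInseparable.finSepDegree_eq_one _ _))).1
  rw [ENat.card_le_one_iff_subsingleton]
  refine ⟨fun χ χ' => Subtype.ext ?_⟩
  have key : ∀ χ : {χ // χ ≫ g = γ}, ∃ τ : {τ : Y'.residueField u ⟶ CommRingCat.of _ //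
      Spec.map τ ≫ Y'.fromSpecResidueField u ≫ g = γ}, Spec.map τ.1 ≫ Y'.fromSpecResidueField u = χ.1 := fun χ => by
    have hp : pt χ.1 = u := huniq _ (by rw [← pt_comp, χ.2, pt_geoPt])
    obtain ⟨v, hv, τ, hτ⟩ : ∃ v, v = pt χ.1 ∧ ∃ τ, Spec.map τ ≫ Y'.fromSpecResidueField v = χ.1 :=
      ⟨_, rfl, _, (Scheme.SpecToEquivOfField _ Y').left_inv χ.1⟩
    obtain rfl : v = u := hv.trans hp
    exact ⟨⟨τ, by rw [← Category.assoc, hτ]; exact χ.2⟩, hτ⟩
  obtain ⟨τ, hτ⟩ := key χ
  obtain ⟨τ', hτ'⟩ := key χ'
  rw [← hτ, ← hτ', Subsingleton.elim τ τ']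

theorem geometricallyConnected_fibre_of_radicial {X Y : Scheme.{u}}
    [IsIntegral X] [IsIntegral Y] [IsLocallyNoetherian Y] (f : X ⟶ Y) [IsProper f]
    (hdom : f.base (genericPoint X) ⤳ genericPoint Y)
    (hopen : ∀ (Y' : Scheme.{u}) (g : Y' ⟶ Y), IrreducibleSpace ↥Y' → IsLocallyNoetherian Y' →
      IsDominant g → ∀ Z ∈ irreducibleComponents ↥(pullback f g), Dense ((pullback.snd f g).base '' Z))
    (hrad : ∀ x : X.functionField,
      (∃ q : Polynomial Y.functionField, q ≠ 0 ∧
        Polynomial.eval₂ (CohIII.stalkToFunctionField f (genericPoint Y) hdom) x q = 0) →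
      ∃ e : ℕ, x ^ (ringExpChar X.functionField ^ e) ∈
        Set.range (CohIII.stalkToFunctionField f (genericPoint Y) hdom))
    (y : Y) : GeometricallyConnected (f.fiberToSpecResidueField y) := by
  let g := f.fromNormalization
  let π := f.toNormalization
  have hπg : π ≫ g = f := f.toNormalization_fromNormalization
  haveI : IsFinite g := ZarConn.isFinite_fromNormalization f
  haveI : GeometricallyConnected π := ZarConn.geometricallyConnected_toNormalization f
  have hη : MoreMor.nGeomConnComp g (genericPoint Y) ≤ 1 :=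
    nGeomConnComp_generic_le_one π g f hπg hdom hrad
  have hle : MoreMor.nGeomConnComp g y ≤ 1 := by
    by_cases hy : genericPoint Y = y
    · exact hy ▸ hη
    obtain ⟨A, _, _, _, hA, hc, hAη, -, -⟩ :=
      DvrGeom.exists_dvr_realizing g y (genericPoint Y) hy ((genericPoint_spec Y).specializes trivial)
    haveI : IsDominant hA := ⟨by
      refine Dense.mono (Set.singleton_subset_iff.mpr ⟨_, hAη⟩) ?_
      exact dense_iff_closure_eq.mpr (genericPoint_spec Y).def⟩
    rw [← hc, ← nGeomConnComp_snd g hA]
    refine (nGeomConnComp_closed_le (pullback.snd g hA) fun w => ?_).trans ?_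
    · let m : pullback f hA ⟶ pullback g hA :=
        pullback.map _ _ _ _ π (𝟙 _) (𝟙 _) (by rw [Category.comp_id, hπg]) (by simp)
      have hm : m ≫ pullback.snd g hA = pullback.snd f hA :=
        (pullback.lift_snd _ _ _).trans (Category.comp_id _)
      have hsq : IsPullback (pullback.fst f hA) m π (pullback.fst g hA) :=
        IsPullback.of_bot (by rw [hm, hπg]; exact IsPullback.of_hasPullback _ _)
          (pullback.lift_fst _ _ _).symm (IsPullback.of_hasPullback g hA)
      haveI : Surjective m := MorphismProperty.of_isPullback hsq inferInstance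
      obtain ⟨x, rfl⟩ := m.surjective w
      obtain ⟨z, hz⟩ := QuasiSober.sober (isIrreducible_irreducibleComponent (x := x)) isClosed_irreducibleComponent
      refine ⟨m z, (hz.specializes mem_irreducibleComponent).map m.continuous, fun hcl => ?_⟩
      have hd := hopen _ hA inferInstance inferInstance inferInstance _
        (irreducibleComponent_mem_irreducibleComponents x)
      rw [← Scheme.Hom.comp_apply, hm] at hcl
      have hsub : (pullback.snd f hA) '' irreducibleComponent x ⊆ {IsLocalRing.closedPoint A} := by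
        rintro _ ⟨a, ha, rfl⟩
        have h1 := (hz.specializes ha).map (pullback.snd f hA).continuous
        rw [hcl] at h1
        exact (IsLocalRing.isClosed_singleton_closedPoint (R := A)).stableUnderSpecialization h1 rfl
      have huniv := (closure_minimal hsub (IsLocalRing.isClosed_singleton_closedPoint A))
        (hd (genericPoint ↥(Spec (CommRingCat.of A))))
      exact hy (by rw [← hAη, huniv]; exact hc)
    · rw [nGeomConnComp_snd g hA, hAη]
      exact hη
  rw [← nGeomConnComp_fromNormalization f, nGeomConnComp_eq] at hle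
  haveI : PreconnectedSpace ↥(pullback f (sepPt y)) := by
    haveI := (ENat.card_le_one_iff_subsingleton _).mp hle
    exact preconnectedSpace_iff_connectedComponent.mpr fun a => Set.eq_univ_of_forall fun b =>
      ConnectedComponents.coe_eq_coe'.mp ((ENat.card_le_one_iff_subsingleton _).mp hle |>.elim _ _)
  let e := pullbackLeftPullbackSndIso f (Y.fromSpecResidueField y)
    (Spec.map (CommRingCat.ofHom (algebraMap (Y.residueField y) (SeparableClosure (Y.residueField y)))))
  haveI : Surjective f := ⟨fun t => by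
    obtain ⟨x, -, hx⟩ : t ∈ f '' Set.univ := by
      refine (f.isClosedMap _ isClosed_univ).stableUnderSpecialization
        (hdom.trans ((genericPoint_spec Y).specializes trivial)) ⟨_, trivial, rfl⟩
    exact ⟨x, hx⟩⟩
  haveI : Nonempty ↥(pullback f (sepPt y)) :=
    ⟨((pullback.snd f (sepPt y)).surjective (IsLocalRing.closedPoint _)).choose⟩
  have hconn : ConnectedSpace ↥(pullback f (sepPt y)) := ⟨inferInstance⟩
  refine @FieldExtConn.geometricallyConnected_of_sepClosure _ _ _ (f.fiberToSpecResidueField y) ?_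
  exact e.inv.homeomorph.connectedSpace_iff.mp hconn

end Groth.Agent.GeomCount
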